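import Cfsg.Agent.H1.Block

/-!
# Uniqueness of the character of defect zero in the defining characteristic
-/

set_option autoImplicit false
set_option linter.unusedSectionVars false

namespace Cfsg.Agent.H1

open Cfsg Module

theorem exists_isPModular (p : ℕ) (hp : p.Prime) : ∃ M : Ideal AlgInt, IsPModular p M := by
  have : Ideal.span {(p : AlgInt)} ≠ ⊤ := by
    rw [Ne, Ideal.span_singleton_eq_top]
    intro h
    obtain ⟨y, hy⟩ := h.exists_right_inv
    have h1 : (p : ℂ) * y = 1 := by exact_mod_cast congrArg Subtype.val hy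
    have h2 : (y : ℂ) = algebraMap ℚ ℂ (p : ℚ)⁻¹ := by
      rw [map_inv₀, map_natCast]
      exact eq_inv_of_mul_eq_one_right h1
    have h3 : IsIntegral ℤ ((p : ℚ)⁻¹) := by
      rw [← isIntegral_algebraMap_iff (algebraMap ℚ ℂ).injective, ← h2]
      exact y.2
    obtain ⟨z, hz⟩ := IsIntegrallyClosed.isIntegral_iff.mp h3
    have h4 : (p : ℚ) * z = 1 := by
      rw [show (z : ℚ) = (p : ℚ)⁻¹ from hz, mul_inv_cancel₀]
      exact_mod_cast hp.ne_zero
    have h5 : (p : ℤ) * z = 1 := by exact_mod_cast h4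
    have h6 := Int.eq_one_of_mul_eq_one_right (by omega) h5
    exact hp.ne_one (by exact_mod_cast h6)
  obtain ⟨M, hM, hle⟩ := Ideal.exists_le_maximal _ this
  exact ⟨M, hp, hM, hle (Ideal.mem_span_singleton_self _)⟩

theorem sum_mem_of_orbits {P X V : Type*} [Group P] [Fintype P] [MulAction P X] [Fintype X]
    [AddCommMonoid V] (N : AddSubmonoid V) (f : X → V)
    (h : ∀ x, (∀ s : P, f (s • x) = 0) ∨
      ((∀ s : P, s • x = x → s = 1) ∧ ∑ s : P, f (s • x) ∈ N)) : ∑ x, f x ∈ N := by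
  classical
  rw [← Finset.sum_fiberwise (g := fun x => Quotient.mk (MulAction.orbitRel P X) x)]
  refine sum_mem (fun o _ => ?_)
  induction o using Quotient.inductionOn with
  | h a =>
    rcases h a with h1 | ⟨h1, h2⟩
    · rw [Finset.sum_eq_zero]
      · exact zero_mem _
      · intro x hx
        simp only [Finset.mem_filter, Finset.mem_univ, true_and, Quotient.eq] at hx
        obtain ⟨s, rfl⟩ := hx
        exact h1 s
    · convert h2 using 1
      symm
      refine Finset.sum_bij (fun s _ => s • a) ?_ ?_ ?_ (fun _ _ => rfl)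
      · intro s _
        simp only [Finset.mem_filter, Finset.mem_univ, true_and, Quotient.eq]
        exact ⟨s, rfl⟩
      · intro s _ t _ e
        have := h1 (t⁻¹ * s) (by rw [mul_smul, e, inv_smul_smul])
        exact (inv_mul_eq_one.mp this).symm
      · intro x hx
        simp only [Finset.mem_filter, Finset.mem_univ, true_and, Quotient.eq] at hx
        obtain ⟨s, rfl⟩ := hx
        exact ⟨s, Finset.mem_univ _, rfl⟩

/-- an invariant functional that does not vanish on a given vector's orbit -/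
theorem exists_functional_const {p : ℕ} [Fact p.Prime] {k : Type*} [Field k] [CharP k p]
    {X : Type*} [AddCommGroup X] [Module k X] {P : Type*} [Group P] [Finite P]
    (hP : IsPGroup p P) (ρ : P →* Module.End k X) {y : X} (hy : y ≠ 0) :
    ∃ φ : Module.Dual k X, ∀ s, φ (ρ s y) = 1 := by
  have := Fintype.ofFinite P
  let e : Module.Dual k X →ₗ[k] (P → k) :=
    { toFun := fun φ s => φ (ρ s y)
      map_add' := fun _ _ => rfl
      map_smul' := fun _ _ => rfl }
  obtain ⟨_, ⟨φ, rfl⟩, h0, hfix⟩ := exists_fixed_of_isPGroup hP (lreg k) (LinearMap.range e) (by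
    rw [Ne, LinearMap.range_eq_bot]
    intro h
    apply hy
    rw [← Module.forall_dual_apply_eq_zero_iff k]
    intro φ
    simpa [e] using congrFun (LinearMap.congr_fun h φ) 1) (by
    rintro s _ ⟨φ, rfl⟩
    exact ⟨φ ∘ₗ ρ s⁻¹, by ext t; simp [e]⟩)
  have h1 : ∀ s, φ (ρ s y) = φ y := fun s => by
    simpa [e] using (congrFun (hfix s) s).symm
  have h2 : φ y ≠ 0 := by
    intro h
    apply h0
    ext s
    simp [e, h1, h]
  exact ⟨(φ y)⁻¹ • φ, fun s => by simp [h1, h2]⟩

/-- the part of a split `BN`-pair with `SL₂`-type rank one subgroups used below -/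
structure SplitData (G : Type*) [Group G] (F : Type*) [Field F] (ι : Type*) where
  /-- the unipotent subgroup -/
  U : Subgroup G
  /-- a representative of the longest element -/
  w : G
  /-- simple root elements -/
  x : ι → F → G
  /-- representatives of the simple reflections -/
  n : ι → G
  /-- simple coroots -/
  h : ι → Fˣ →* G
  x_add : ∀ i a b, x i (a + b) = x i a * x i b
  x_inj : ∀ i a, x i a = 1 → a = 0
  x_mem : ∀ i a, x i a ∈ U
  bruhat : ∀ g, (∀ u ∈ U, g⁻¹ * u * g ∈ U → u = 1) →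
    ∃ u ∈ U, ∃ t, (∀ v ∈ U, t⁻¹ * v * t ∈ U) ∧ ∃ u' ∈ U, g = u * w * t * u'
  h_norm : ∀ i a, ∀ u ∈ U, (h i a)⁻¹ * u * h i a ∈ U
  n_sq : ∀ i, ∃ c, n i * n i = h i c
  nxn : ∀ i, ∃ σ : Fˣ ≃ Fˣ, ∀ a : Fˣ, ∃ b, ∃ u ∈ U, n i * x i a * n i = x i b * n i * h i (σ a) * u
  decU : ∀ i, ∀ u ∈ U, ∃ a u', u = x i a * u' ∧ ∀ b, (x i b * n i)⁻¹ * u' * (x i b * n i) ∈ U
  v_mem : ∀ i a, w * ((n i)⁻¹ * x i a * n i) * w⁻¹ ∈ U
  decV : ∀ i v, w * v * w⁻¹ ∈ U → ∃ v' b, v = v' * ((n i)⁻¹ * x i b * n i) ∧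
    ∀ a, w * (x i a * v' * (x i a)⁻¹) * w⁻¹ ∈ U
  gen : ∀ H : Subgroup G, (∀ v, w * v * w⁻¹ ∈ U → v ∈ H) → (∀ i a, x i a ∈ H) → H = ⊤

namespace SplitData

variable {G : Type*} [Group G] [Fintype G] {F : Type*} [Field F] [Fintype F] {ι : Type*}
  (D : SplitData G F ι) {p : ℕ} [hp : Fact p.Prime] [CharP F p]
  {k : Type*} [Field k] [CharP k p] {X : Type*} [AddCommGroup X] [Module k X]
  (ρ : G →* Module.End k X)

theorem x_zero (i : ι) : D.x i 0 = 1 := by
  have := D.x_add i 0 0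
  rw [add_zero] at this
  exact left_eq_mul.mp this

/-- fixed vectors of `U` -/
def Fix : Submodule k X where
  carrier := {y | ∀ u ∈ D.U, ρ u y = y}
  add_mem' ha hb u hu := by rw [map_add, ha u hu, hb u hu]
  zero_mem' u _ := map_zero _
  smul_mem' c y hy u hu := by rw [map_smul, hy u hu]

theorem norm_mem_Fix {t : G} (ht : ∀ v ∈ D.U, t⁻¹ * v * t ∈ D.U) {y : X} (hy : y ∈ D.Fix ρ) :
    ρ t y ∈ D.Fix ρ := by
  intro u hu
  rw [← Module.End.mul_apply, ← map_mul, show u * t = t * (t⁻¹ * u * t) by group, map_mul,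
    Module.End.mul_apply, hy _ (ht u hu)]

open Classical in
/-- the sum over `U` -/
noncomputable def sumU (g : G) (y : X) : X := ∑ u : D.U, ρ (u * g) y

theorem sumU_mem (g : G) (y : X) : D.sumU ρ g y ∈ D.Fix ρ := by
  classical
  intro u hu
  simp only [sumU, map_sum, ← Module.End.mul_apply, ← map_mul]
  conv_rhs => rw [← Equiv.sum_comp (Equiv.mulLeft (⟨u, hu⟩ : D.U))]
  simp [mul_assoc]

include p in
theorem sumU_eq (hU : IsPGroup p D.U) (g : G) {y : X} (hy : y ∈ D.Fix ρ) :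
    D.sumU ρ g y = 0 ∨ ∃ t, (∀ v ∈ D.U, t⁻¹ * v * t ∈ D.U) ∧ D.sumU ρ g y = D.sumU ρ D.w (ρ t y) := by
  classical
  by_cases h : ∀ u ∈ D.U, g⁻¹ * u * g ∈ D.U → u = 1
  · obtain ⟨u, hu, t, ht, u', hu', rfl⟩ := D.bruhat g h
    refine Or.inr ⟨t, ht, ?_⟩
    simp only [sumU]
    conv_rhs => rw [← Equiv.sum_comp (Equiv.mulRight (⟨u, hu⟩ : D.U))]
    refine Finset.sum_congr rfl (fun v _ => ?_)
    simp only [← mul_assoc, map_mul, Module.End.mul_apply, hy u' hu', Equiv.coe_mulRight,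
      Subgroup.coe_mul]
  · left
    push Not at h
    obtain ⟨u, hu, hu', hne⟩ := h
    let S : Subgroup D.U := Subgroup.zpowers ⟨u, hu⟩
    let _ : MulAction S D.U :=
      { smul := fun s v => v * (s : D.U)⁻¹
        one_smul := fun v => by change v * _ = v; simp
        mul_smul := fun s t v => by
          change v * _ = v * _ * _
          simp [mul_assoc] }
    rw [sumU, sum_eq_sum_fixed (hU.to_subgroup S) (p := p) (fun v => by
      rw [← Nat.cast_smul_eq_nsmul k, CharP.cast_eq_zero, zero_smul])]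
    · refine Finset.sum_eq_zero (fun v _ => if_neg (fun h => hne ?_))
      have : v * (⟨u, hu⟩ : D.U)⁻¹ = v := h ⟨_, Subgroup.mem_zpowers _⟩
      simpa using congrArg Subtype.val this
    · rintro ⟨s, m, rfl⟩ v
      change ρ ((v * (_ : D.U)⁻¹ : D.U) * g) y = _
      have : g⁻¹ * (u ^ m)⁻¹ * g ∈ D.U := by
        have := inv_mem (zpow_mem hu' m)
        have e : (g⁻¹ * u * g) ^ m = g⁻¹ * u ^ m * g := by
          simpa using conj_zpow (i := m) (a := g⁻¹) (b := u)
        rw [e] at this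
        simpa [mul_assoc] using this
      simp only [Subgroup.coe_mul, Subgroup.coe_inv, Subgroup.coe_zpow]
      rw [show v * (u ^ m)⁻¹ * g = v * g * (g⁻¹ * (u ^ m)⁻¹ * g) by group, map_mul,
        Module.End.mul_apply, hy _ this]

/-- the rank one Hecke operator -/
noncomputable def tau (i : ι) : Module.End k X := ∑ a : F, ρ (D.x i a * D.n i)

theorem tau_apply (i : ι) (y : X) : D.tau ρ i y = ∑ a : F, ρ (D.x i a * D.n i) y := by
  simp [tau, LinearMap.sum_apply]

theorem x_tau (i : ι) (a : F) (y : X) : ρ (D.x i a) (D.tau ρ i y) = D.tau ρ i y := by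
  simp only [tau_apply, map_sum, ← Module.End.mul_apply, ← map_mul, ← mul_assoc, ← D.x_add]
  exact Equiv.sum_comp (Equiv.addLeft a) (fun b => ρ (D.x i b * D.n i) y)

theorem tau_mem (i : ι) {y : X} (hy : y ∈ D.Fix ρ) : D.tau ρ i y ∈ D.Fix ρ := by
  intro u hu
  obtain ⟨a, u', rfl, h⟩ := D.decU i u hu
  rw [map_mul, Module.End.mul_apply]
  have : ρ u' (D.tau ρ i y) = D.tau ρ i y := by
    simp only [tau_apply, map_sum]
    refine Finset.sum_congr rfl (fun b _ => ?_)
    conv_rhs => rw [← hy _ (h b)]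
    simp only [← Module.End.mul_apply, ← map_mul]
    congr 2
    group
  rw [this, x_tau]

theorem sumU_eq_zero_of_tau (i : ι) {y : X} (h : D.tau ρ i y = 0) : D.sumU ρ D.w y = 0 := by
  classical
  let v : F → D.U := fun a => ⟨_, D.v_mem i a⟩
  have hv : ∀ a b, v (a + b) = v a * v b := fun a b => Subtype.ext (by
    simp only [v, D.x_add, Subgroup.coe_mul]; group)
  let _ : MulAction (Multiplicative F) D.U :=
    { smul := fun s u => u * v s.toAdd
      one_smul := fun u => by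
        change u * v 0 = u
        simp [v, D.x_zero]
      mul_smul := fun s t u => by
        change u * v (s.toAdd + t.toAdd) = u * v t.toAdd * v s.toAdd
        rw [add_comm, hv, mul_assoc] }
  refine (AddSubmonoid.mem_bot).mp (sum_mem_of_orbits (P := Multiplicative F) ⊥ _
    (fun u => Or.inr ⟨fun s hs => ?_, ?_⟩))
  · have h1 : u * v s.toAdd = u := hs
    have h2 := congrArg Subtype.val (mul_eq_left.mp h1)
    simp only [v, OneMemClass.coe_one, conj_eq_one_iff] at h2
    have h3 : D.x i s.toAdd = 1 := by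
      rw [← inv_inv (D.n i), inv_inv (D.n i)⁻¹, conj_eq_one_iff] at h2
      exact h2
    exact D.x_inj i _ h3
  · rw [AddSubmonoid.mem_bot]
    have : ∀ s : Multiplicative F, ρ (((s • u : D.U) : G) * D.w) y =
        ρ (u * D.w * (D.n i)⁻¹) (ρ (D.x i s.toAdd * D.n i) y) := by
      intro s
      change ρ (((u * v s.toAdd : D.U) : G) * D.w) y = _
      simp only [← Module.End.mul_apply, ← map_mul, v, Subgroup.coe_mul]
      congr 2
      group
    simp only [this, ← map_sum]
    rw [tau_apply] at h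
    rw [Equiv.sum_comp Multiplicative.toAdd (fun a => ρ (D.x i a * D.n i) y), h, map_zero]

include p in
theorem card_eq_zero : (Fintype.card F : k) = 0 := by
  obtain ⟨n, -, hn⟩ := FiniteField.card F p
  rw [hn, Nat.cast_pow, CharP.cast_eq_zero, zero_pow n.ne_zero]

include p in
theorem tau_tau [DecidableEq F] (i : ι) {y : X} (hy : y ∈ D.Fix ρ) :
    D.tau ρ i (D.tau ρ i y) = D.tau ρ i (∑ a : Fˣ, ρ (D.h i a) y) := by
  obtain ⟨σ, hσ⟩ := D.nxn i
  obtain ⟨c, hc⟩ := D.n_sq i
  have h1 : ∀ g, D.tau ρ i (ρ g y) = ∑ a : F, ρ (D.x i a) (ρ (D.n i * g) y) := fun g => by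
    simp only [tau_apply, map_mul, Module.End.mul_apply]
  rw [← Equiv.sum_comp σ, map_sum]
  conv_lhs => rw [tau_apply D ρ i y, map_sum]
  rw [Fintype.sum_eq_add_sum_subtype_ne _ 0, D.x_zero, one_mul, h1, hc,
    Finset.sum_congr rfl (fun a _ => D.norm_mem_Fix ρ (D.h_norm i c) hy _ (D.x_mem i a)),
    Finset.sum_const, Finset.card_univ, ← Nat.cast_smul_eq_nsmul k, card_eq_zero (p := p),
    zero_smul, zero_add]
  refine Fintype.sum_equiv unitsEquivNeZero.symm _ _ (fun a => ?_)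
  obtain ⟨b, u, hu, e⟩ := hσ (unitsEquivNeZero.symm a)
  have e' : D.n i * (D.x i a * D.n i) = D.x i b * (D.n i * D.h i (σ (unitsEquivNeZero.symm a))) * u := by
    simp only [← mul_assoc]
    exact e
  rw [h1, h1, e', map_mul, Module.End.mul_apply, hy u hu]
  rw [map_mul ρ (D.x i b), Module.End.mul_apply]
  generalize ρ (D.n i * D.h i _) y = z
  simp only [← Module.End.mul_apply, ← map_mul, ← D.x_add]
  exact Equiv.sum_comp (Equiv.addRight b) (fun a => ρ (D.x i a) z)

include p in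
theorem h_fix_tau_eq (i : ι) (Y : Submodule k X) (hY : Y ≤ D.Fix ρ)
    (hYh : ∀ a, ∀ y ∈ Y, ρ (D.h i a) y ∈ Y) (hYt : ∀ y ∈ Y, D.tau ρ i y ∈ Y)
    (hinj : ∀ y ∈ Y, D.tau ρ i y = 0 → y = 0) {y : X} (hy : y ∈ Y) :
    (∀ a, ρ (D.h i a) y = y) ∧ D.tau ρ i y = -y := by
  classical
  have h1 : ∀ y ∈ Y, D.tau ρ i y = ∑ a : Fˣ, ρ (D.h i a) y := by
    intro y hy
    rw [← sub_eq_zero]
    apply hinj _ (sub_mem (hYt y hy) (sum_mem (fun a _ => hYh a y hy)))
    rw [map_sub, D.tau_tau ρ (p := p) i (hY hy), sub_self]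
  have h2 : ∀ a, ρ (D.h i a) y = y := by
    intro a
    rw [← sub_eq_zero]
    apply hinj _ (sub_mem (hYh a y hy) hy)
    rw [map_sub, h1 _ hy, h1 _ (hYh a y hy), sub_eq_zero]
    simp only [← Module.End.mul_apply, ← map_mul]
    exact Equiv.sum_comp (Equiv.mulRight a) (fun b => ρ (D.h i b) y)
  refine ⟨h2, ?_⟩
  rw [h1 y hy]
  simp only [h2, Finset.sum_const, Finset.card_univ, Fintype.card_units]
  rw [← Nat.cast_smul_eq_nsmul k, Nat.cast_sub Fintype.card_pos, card_eq_zero (p := p)]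
  simp

/-- a Steinberg vector generates its module under the opposite unipotent group -/
theorem mem_span_of_steinberg {y : X} (hy : y ∈ D.Fix ρ) (hh : ∀ i a, ρ (D.h i a) y = y)
    (ht : ∀ i, D.tau ρ i y = -y) (g : G) :
    ρ g y ∈ Submodule.span k {z | ∃ v, D.w * v * D.w⁻¹ ∈ D.U ∧ z = ρ v y} := by
  set W := Submodule.span k {z | ∃ v, D.w * v * D.w⁻¹ ∈ D.U ∧ z = ρ v y} with hW
  let H : Subgroup G :=
    { carrier := {g | W.map (ρ g) = W}
      mul_mem' := fun {a b} ha hb => by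
        simp only [Set.mem_ofPred_eq] at *
        rw [map_mul, Module.End.mul_eq_comp, Submodule.map_comp, hb, ha]
      one_mem' := by simp [Module.End.one_eq_id]
      inv_mem' := fun {a} ha => by
        simp only [Set.mem_ofPred_eq] at *
        conv_lhs => rw [← ha, ← Submodule.map_comp, ← Module.End.mul_eq_comp, ← map_mul,
          inv_mul_cancel, map_one, Module.End.one_eq_id, Submodule.map_id] }
  have hH : ∀ (W' : Submodule k X) (g : G), (∀ z ∈ W', ρ g z ∈ W') → W'.map (ρ g) = W' := by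
    intro W' g hg
    have h1 : ∀ m : ℕ, ∀ z ∈ W', ρ (g ^ m) z ∈ W' := by
      intro m
      induction m with
      | zero => simp
      | succ m ih => intro z hz; rw [pow_succ, map_mul]; exact ih _ (hg z hz)
    refine le_antisymm (Submodule.map_le_iff_le_comap.mpr hg) (fun z hz => ?_)
    refine ⟨_, h1 (orderOf g - 1) z hz, ?_⟩
    rw [← Module.End.mul_apply, ← map_mul, ← pow_succ', Nat.sub_add_cancel (orderOf_pos g),
      pow_orderOf_eq_one, map_one, Module.End.one_apply]
  have hspan : ∀ g : G, (∀ v, D.w * v * D.w⁻¹ ∈ D.U → ρ g (ρ v y) ∈ W) → ∀ z ∈ W, ρ g z ∈ W := by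
    intro g hg z hz
    refine (Submodule.span_le (p := W.comap (ρ g))).mpr ?_ hz
    rintro _ ⟨v, hv, rfl⟩
    exact hg v hv
  have hV : ∀ v, D.w * v * D.w⁻¹ ∈ D.U → ∀ z ∈ W, ρ v z ∈ W := by
    intro v hv
    refine hspan v (fun v' hv' => Submodule.subset_span ⟨v * v', ?_, by simp⟩)
    have := mul_mem hv hv'
    rwa [conj_mul] at this
  have hyW : y ∈ W := Submodule.subset_span ⟨1, by simp, by simp⟩
  have htop : H = ⊤ := by
    refine D.gen H (fun v hv => hH W v (hV v hv)) (fun i a => hH W _ (hspan _ (fun v hv => ?_)))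
    obtain ⟨v', b, rfl, hv'⟩ := D.decV i v hv
    have e : ρ (D.x i a) (ρ (v' * ((D.n i)⁻¹ * D.x i b * D.n i)) y) =
        ρ (D.x i a * v' * (D.x i a)⁻¹) (ρ (D.x i a) (ρ (D.n i)⁻¹ (ρ (D.x i b * D.n i) y))) := by
      simp only [← Module.End.mul_apply, ← map_mul]
      congr 2
      group
    rw [e]
    apply hV _ (hv' a)
    let W' := Submodule.span k (insert y (Set.range (fun c => ρ (D.x i c * D.n i) y)))
    have m0 : y ∈ W' := Submodule.subset_span (Set.mem_insert _ _)
    have m1 : ∀ c, ρ (D.x i c * D.n i) y ∈ W' := fun c =>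
      Submodule.subset_span (Set.mem_insert_of_mem _ ⟨c, rfl⟩)
    have hx : ∀ z ∈ W', ρ (D.x i a) z ∈ W' := by
      intro z hz
      refine (Submodule.span_le (p := W'.comap (ρ (D.x i a)))).mpr ?_ hz
      rintro _ (rfl | ⟨c, rfl⟩)
      · change ρ _ _ ∈ W'
        rwa [hy _ (D.x_mem i a)]
      · change ρ _ _ ∈ W'
        simp only [← Module.End.mul_apply, ← map_mul, ← mul_assoc, ← D.x_add]
        exact m1 _
    have hn : W'.map (ρ (D.n i)) = W' := by
      refine hH W' _ (fun z hz => ?_)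
      refine (Submodule.span_le (p := W'.comap (ρ (D.n i)))).mpr ?_ hz
      rintro _ (rfl | ⟨c, rfl⟩)
      · simpa [D.x_zero] using m1 0
      · change ρ _ _ ∈ W'
        simp only [← Module.End.mul_apply, ← map_mul, ← mul_assoc]
        by_cases hc : c = 0
        · obtain ⟨d, hd⟩ := D.n_sq i
          rwa [hc, D.x_zero, mul_one, hd, hh]
        · obtain ⟨σ, hσ⟩ := D.nxn i
          obtain ⟨b, u, hu, e⟩ := hσ (Units.mk0 c hc)
          rw [Units.val_mk0] at e
          rw [e, map_mul, Module.End.mul_apply, hy u hu, map_mul, Module.End.mul_apply, hh]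
          exact m1 b
    have hn' : ∀ z ∈ W', ρ (D.n i)⁻¹ z ∈ W' := by
      intro z hz
      rw [← hn] at hz
      obtain ⟨z, hz, rfl⟩ := hz
      rwa [← Module.End.mul_apply, ← map_mul, inv_mul_cancel, map_one]
    have m2 : ∀ c, ρ (D.n i)⁻¹ (ρ (D.x i c * D.n i) y) ∈ W := fun c =>
      Submodule.subset_span ⟨_, D.v_mem i c, by simp⟩
    have hle : ∀ z ∈ W', ρ (D.n i)⁻¹ z ∈ W := by
      intro z hz
      refine (Submodule.span_le (p := W.comap (ρ (D.n i)⁻¹))).mpr ?_ hz
      rintro _ (rfl | ⟨c, rfl⟩)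
      · change ρ _ _ ∈ W
        rw [← neg_mem_iff, ← map_neg, ← ht i, tau_apply, map_sum]
        exact sum_mem (fun c _ => m2 c)
      · exact m2 c
    have h3 : ρ (D.n i) (ρ (D.x i a) (ρ (D.n i)⁻¹ (ρ (D.x i b * D.n i) y))) ∈ W' := by
      rw [← hn]
      exact ⟨_, hx _ (hn' _ (m1 b)), rfl⟩
    have h4 := hle _ h3
    rwa [← Module.End.mul_apply, ← map_mul, inv_mul_cancel, map_one] at h4
  have : g ∈ H := htop ▸ Subgroup.mem_top g
  rw [← show W.map (ρ g) = W from this]
  exact ⟨y, hyW, rfl⟩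

end SplitData

section main

variable {G : Type*} [Group G] [Fintype G] {M : Ideal AlgInt} [hM : M.IsMaximal]
  {p : ℕ} [hp : Fact p.Prime] [CharP (ResF M) p]

theorem conv_idem {χ : G → ℂ} (hχ : IsIrrCharacter G χ) {c : G → locRing M} (hc : IsCF c) :
    conv (red M ∘ c) (red M ∘ idem M hχ) = lam M χ c • (red M ∘ idem M hχ) := by
  ext x
  rw [← map_conv, Pi.smul_apply, smul_eq_mul, lam, Function.comp, ← redC_coe, ← redC_coe,
    ← redC_mul (om_mem hχ hc) (idem M hχ x).2]
  congr 1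
  rw [om, show ((idem M hχ x : locRing M) : ℂ) = χ x⁻¹ from rfl,
    ← IsIrrCharacter.sum_mul_mul hχ (f := fun g => c g) hc.coe]
  refine (map_conv (locRing M).subtype _ _ _).trans (Finset.sum_congr rfl (fun g _ => ?_))
  change (c g : ℂ) * χ (g⁻¹ * x)⁻¹ = _
  rw [mul_inv_rev, inv_inv, IsCharacter.mul_comm (IsIrrCharacter.isCharacter hχ)]

variable (M) in
/-- the block component of the regular module -/
noncomputable def blockComp {χ : G → ℂ} (hχ : IsIrrCharacter G χ) :
    Submodule (ResF M) (G → ResF M) :=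
  Module.End.eigenspace (convOp (red M ∘ idem M hχ)) (lam M χ (idem M hχ))

theorem mem_blockComp {χ : G → ℂ} (hχ : IsIrrCharacter G χ) {f : G → ResF M} :
    f ∈ blockComp M hχ ↔ conv (red M ∘ idem M hχ) f = lam M χ (idem M hχ) • f :=
  Module.End.mem_eigenspace_iff

theorem lreg_mem_blockComp {χ : G → ℂ} (hχ : IsIrrCharacter G χ) (g : G) {f : G → ResF M}
    (hf : f ∈ blockComp M hχ) : lreg (ResF M) g f ∈ blockComp M hχ := by
  rw [mem_blockComp] at *
  have := LinearMap.congr_fun (lreg_mul_convOp (a := red M ∘ idem M hχ) (s := g)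
    (fun x => by simp [isCF_idem hχ x g])) f
  simp only [Module.End.mul_apply, convOp_apply] at this
  rw [← this, hf, map_smul]

theorem blockComp_ne_bot {χ : G → ℂ} (hχ : IsIrrCharacter G χ) (hd : DefZero p χ) :
    blockComp M hχ ≠ ⊥ := by
  intro h
  have h1 : red M ∘ idem M hχ ∈ blockComp M hχ :=
    (mem_blockComp hχ).mpr (conv_idem hχ (isCF_idem hχ))
  rw [h, Submodule.mem_bot] at h1
  have := Fintype.ofFinite (ConjClasses G)
  apply hd.lam_idem (M := M) hχ
  rw [lam_eq_sum hχ (isCF_idem hχ)]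
  refine Finset.sum_eq_zero (fun K _ => ?_)
  rw [show red M (idem M hχ (crep K)) = 0 from congrFun h1 _, zero_mul]

variable {F : Type*} [Field F] [Fintype F] [CharP F p] {ι : Type*} (D : SplitData G F ι)

theorem SplitData.steinberg (hU : IsPGroup p D.U) {χ : G → ℂ} (hχ : IsIrrCharacter G χ)
    (hd : DefZero p χ) {y : G → ResF M} (hy : y ∈ blockComp M hχ ⊓ D.Fix (lreg (ResF M))) (i : ι) :
    (∀ a, lreg (ResF M) (D.h i a) y = y) ∧ D.tau (lreg (ResF M)) i y = -y := by
  classical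
  set ρ : G →* Module.End (ResF M) (G → ResF M) := lreg (ResF M) with hρ
  set Y := blockComp M hχ ⊓ D.Fix ρ with hY
  have hT : ∀ y ∈ Y, D.sumU ρ D.w y ∈ Y := fun y hy =>
    ⟨sum_mem (fun u _ => lreg_mem_blockComp hχ _ hy.1), D.sumU_mem ρ _ _⟩
  let T : Y →ₗ[ResF M] Y :=
    { toFun := fun y => ⟨D.sumU ρ D.w y, hT y y.2⟩
      map_add' := fun a b => Subtype.ext (by simp [SplitData.sumU, Finset.sum_add_distrib])
      map_smul' := fun c a => Subtype.ext (by simp [SplitData.sumU, Finset.smul_sum]) }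
  have hsurj : Function.Surjective T := by
    rw [← LinearMap.range_eq_top, eq_top_iff]
    rintro y -
    suffices h : (lam M χ (idem M hχ) • y : Y).1 ∈ (LinearMap.range T).map Y.subtype by
      obtain ⟨z, hz, e⟩ := h
      rw [show z = _ from Subtype.ext e] at hz
      exact (Submodule.smul_mem_iff _ (hd.lam_idem hχ)).mp hz
    rw [Submodule.coe_smul, ← (mem_blockComp hχ).mp y.2.1, ← convOp_apply, convOp_eq_sum,
      LinearMap.sum_apply]
    let _ : MulAction D.U G := MulAction.compHom G (MulAut.conj.comp D.U.subtype)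
    refine sum_mem_of_orbits (P := D.U) ((LinearMap.range T).map Y.subtype).toAddSubmonoid _
      (fun g => ?_)
    have hs : ∀ s : D.U, s • g = s * g * (s : G)⁻¹ := fun s => rfl
    by_cases hg : p ∣ Nat.card (Subgroup.centralizer ({g⁻¹} : Set G))
    · left
      intro s
      have : red M (idem M hχ g) = 0 := by
        rw [← redC_coe]
        exact hd.redC_eq_zero M hχ hg
      simp [hs, isCF_idem hχ g s, this]
    · right
      constructor
      · intro s h1
        obtain ⟨m, hm⟩ := IsPGroup.iff_orderOf.mp hU s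
        rcases m with _ | m
        · simpa using hm
        · exfalso
          apply hg
          have h2 : (s : G) ∈ Subgroup.centralizer ({g⁻¹} : Set G) := by
            rw [Subgroup.mem_centralizer_singleton_iff]
            rw [hs, mul_inv_eq_iff_eq_mul] at h1
            exact (Commute.inv_right h1).eq
          have h3 := Subgroup.orderOf_dvd_natCard _ h2
          rw [Subgroup.orderOf_coe, hm] at h3
          exact (dvd_pow_self p (by omega)).trans h3
      · have h1 : ∑ s : D.U, ((red M ∘ idem M hχ) (s • g) • lreg (ResF M) (s • g)) y.1 =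
            red M (idem M hχ g) • D.sumU ρ g y := by
          rw [SplitData.sumU, Finset.smul_sum]
          refine Finset.sum_congr rfl (fun s _ => ?_)
          rw [hs, Function.comp, isCF_idem hχ g s, LinearMap.smul_apply, map_mul,
            Module.End.mul_apply, y.2.2 _ (inv_mem s.2)]
        rw [h1]
        refine Submodule.smul_mem _ _ ?_
        rcases D.sumU_eq ρ hU g y.2.2 with h2 | ⟨t, ht, h2⟩
        · rw [h2]; exact zero_mem _
        · rw [h2]
          exact ⟨_, ⟨⟨ρ t y, lreg_mem_blockComp hχ _ y.2.1, D.norm_mem_Fix ρ ht y.2.2⟩, rfl⟩, rfl⟩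
  have hinj : Function.Injective T := LinearMap.injective_iff_surjective.mpr hsurj
  refine D.h_fix_tau_eq ρ (p := p) i Y inf_le_right (fun a y hy =>
    ⟨lreg_mem_blockComp hχ _ hy.1, D.norm_mem_Fix ρ (D.h_norm i a) hy.2⟩) (fun y hy =>
    ⟨?_, D.tau_mem ρ i hy.2⟩) (fun y hy h => ?_) hy
  · rw [SplitData.tau_apply]
    exact sum_mem (fun a _ => lreg_mem_blockComp hχ _ hy.1)
  · have := hinj (a₁ := ⟨y, hy⟩) (a₂ := 0)
      (Subtype.ext (by rw [map_zero]; exact D.sumU_eq_zero_of_tau ρ i h))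
    exact congrArg Subtype.val this

end main

/-- there is at most one irreducible character of defect zero -/
theorem SplitData.defZero_unique {G : Type*} [Group G] [Fintype G] {p : ℕ} [hp : Fact p.Prime]
    {F : Type*} [Field F] [Fintype F] [CharP F p] {ι : Type*} (D : SplitData G F ι)
    (hU : IsPGroup p D.U) {χ₁ χ₂ : G → ℂ} (h₁ : IsIrrCharacter G χ₁) (h₂ : IsIrrCharacter G χ₂)
    (d₁ : DefZero p χ₁) (d₂ : DefZero p χ₂) : χ₁ = χ₂ := by
  obtain ⟨M, hM⟩ := exists_isPModular p hp.out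
  have := hM.2.1
  have := charP_resF hM
  by_contra hne
  set ρ : G →* Module.End (ResF M) (G → ResF M) := lreg (ResF M) with hρ
  obtain ⟨y₁, m₁, n₁, f₁⟩ := exists_fixed_of_isPGroup hU (ρ.comp D.U.subtype) _
    (blockComp_ne_bot h₁ d₁) (fun s w hw => lreg_mem_blockComp h₁ _ hw)
  obtain ⟨y₂, m₂, n₂, f₂⟩ := exists_fixed_of_isPGroup hU (ρ.comp D.U.subtype) _
    (blockComp_ne_bot h₂ d₂) (fun s w hw => lreg_mem_blockComp h₂ _ hw)
  have g₁ : y₁ ∈ D.Fix ρ := fun u hu => f₁ ⟨u, hu⟩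
  have g₂ : y₂ ∈ D.Fix ρ := fun u hu => f₂ ⟨u, hu⟩
  have s₁ := D.steinberg hU h₁ d₁ ⟨m₁, g₁⟩
  have s₂ := D.steinberg hU h₂ d₂ ⟨m₂, g₂⟩
  have key := D.mem_span_of_steinberg ρ (add_mem g₁ g₂)
    (fun i a => by rw [map_add, (s₁ i).1, (s₂ i).1])
    (fun i => by rw [map_add, (s₁ i).2, (s₂ i).2, neg_add])
  have orth : ∀ {χ ψ : G → ℂ} (hχ : IsIrrCharacter G χ) (hψ : IsIrrCharacter G ψ), DefZero p ψ →
      ψ ≠ χ → ∀ f ∈ blockComp M hψ, conv (red M ∘ idem M hχ) f = 0 := by
    intro χ ψ hχ hψ hd hne f hf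
    rw [mem_blockComp] at hf
    have h3 := congrArg (convOp (red M ∘ idem M hχ)) hf
    rw [map_smul, convOp_apply, convOp_apply, ← conv_assoc, conv_idem hψ (isCF_idem hχ),
      lam_idem_of_ne hχ hψ hne, zero_smul] at h3
    have h4 : conv (0 : G → ResF M) f = 0 := by ext; simp [conv]
    rw [h4, eq_comm, smul_eq_zero] at h3
    exact h3.resolve_left (hd.lam_idem hψ)
  let c : D.U →* G := (MulAut.conj D.w⁻¹).toMonoidHom.comp D.U.subtype
  obtain ⟨φ₁, hφ₁⟩ := exists_functional_const hU (ρ.comp c) n₁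
  obtain ⟨φ₂, hφ₂⟩ := exists_functional_const hU (ρ.comp c) n₂
  let Φ : Module.Dual (ResF M) (G → ResF M) :=
    lam M χ₂ (idem M h₂) • (φ₁ ∘ₗ convOp (red M ∘ idem M h₁)) -
      lam M χ₁ (idem M h₁) • (φ₂ ∘ₗ convOp (red M ∘ idem M h₂))
  have hΦ : ∀ g, Φ (ρ g (y₁ + y₂)) =
      lam M χ₁ (idem M h₁) * lam M χ₂ (idem M h₂) * (φ₁ (ρ g y₁) - φ₂ (ρ g y₂)) := by
    intro g
    simp only [Φ, map_add, LinearMap.sub_apply, LinearMap.smul_apply,
      LinearMap.comp_apply, convOp_apply, hρ,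
      (mem_blockComp h₁).mp (lreg_mem_blockComp h₁ g m₁),
      (mem_blockComp h₂).mp (lreg_mem_blockComp h₂ g m₂),
      orth h₁ h₂ d₂ (Ne.symm hne) _ (lreg_mem_blockComp h₂ g m₂),
      orth h₂ h₁ d₁ hne _ (lreg_mem_blockComp h₁ g m₁), map_smul, map_zero, smul_eq_mul]
    ring
  have hΦ0 : ∀ g, Φ (ρ g (y₁ + y₂)) = 0 := by
    intro g
    refine (Submodule.span_le (p := LinearMap.ker Φ)).mpr ?_ (key g)
    rintro _ ⟨v, hv, rfl⟩
    have e : v = c ⟨_, hv⟩ := by simp [c, mul_assoc]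
    change Φ _ = 0
    rw [hΦ, e]
    simp only [MonoidHom.comp_apply] at hφ₁ hφ₂
    rw [hφ₁, hφ₂, sub_self, mul_zero]
  have h3 : Φ (convOp (red M ∘ idem M h₁) (y₁ + y₂)) = 0 := by
    rw [convOp_eq_sum, LinearMap.sum_apply, map_sum]
    refine Finset.sum_eq_zero (fun g _ => ?_)
    rw [LinearMap.smul_apply, map_smul, hΦ0, smul_zero]
  have h4 : φ₁ y₁ = 1 := by simpa using hφ₁ 1
  simp only [Φ, map_add, LinearMap.sub_apply, LinearMap.smul_apply,
      LinearMap.comp_apply, convOp_apply, (mem_blockComp h₁).mp m₁,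
      orth h₁ h₂ d₂ (Ne.symm hne) _ m₂, map_smul, map_zero, smul_eq_mul,
      orth h₂ h₁ d₁ hne _ m₁, h4] at h3
  have a₁ := d₁.lam_idem (M := M) h₁
  have a₂ := d₂.lam_idem (M := M) h₂
  simp [a₁, a₂] at h3

end Cfsg.Agent.H1
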