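import Cfsg.Agent.H1.SpEta

/-!
# Heisenberg systems and the Weil representation
-/

set_option autoImplicit false
set_option linter.unusedSectionVars false

namespace Cfsg.Agent.H1

open Module H5

section Rdet

variable {K : Type*} [Field K] {V : Type*} [AddCommGroup V] [Module K V]

open Classical in
/-- determinant of the restriction to an invariant subspace -/
noncomputable def rdet (S : Submodule K V) (M : Module.End K V) : K :=
  if h : ∀ x ∈ S, M x ∈ S then LinearMap.det (M.restrict h) else 0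

theorem rdet_mul {S : Submodule K V} {M N : Module.End K V} (hM : ∀ x ∈ S, M x ∈ S)
    (hN : ∀ x ∈ S, N x ∈ S) : rdet S (M * N) = rdet S M * rdet S N := by
  have h : ∀ x ∈ S, (M * N) x ∈ S := fun x hx => hM _ (hN x hx)
  rw [rdet, rdet, rdet, dif_pos h, dif_pos hM, dif_pos hN, ← map_mul]
  rfl

theorem rdet_one (S : Submodule K V) : rdet S 1 = 1 := by
  have h : ∀ x ∈ S, (1 : Module.End K V) x ∈ S := fun x hx => hx
  rw [rdet, dif_pos h, ← map_one (LinearMap.det (M := S))]
  rfl

theorem rdet_smul [FiniteDimensional K V] {S : Submodule K V} {M : Module.End K V}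
    (hM : ∀ x ∈ S, M x ∈ S) (c : K) : rdet S (c • M) = c ^ finrank K S * rdet S M := by
  have h : ∀ x ∈ S, (c • M) x ∈ S := fun x hx => S.smul_mem c (hM x hx)
  rw [rdet, rdet, dif_pos h, dif_pos hM, ← LinearMap.det_smul]
  rfl

theorem rdet_ne_zero [FiniteDimensional K V] {S : Submodule K V} {M : Module.End K V}
    (hM : ∀ x ∈ S, M x ∈ S) (hi : Function.Injective M) : rdet S M ≠ 0 := by
  rw [rdet, dif_pos hM]
  intro h
  obtain ⟨x, hx, hx0⟩ := (Submodule.ne_bot_iff _).mp
    (LinearMap.bot_lt_ker_of_det_eq_zero h).ne'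
  exact hx0 (Subtype.ext (hi (by simpa using congrArg Subtype.val hx)))

end Rdet

section Gauss

variable {F : Type*} [Field F] [Fintype F]

theorem sum_psi_mul {ψ : AddChar F ℂ} (hψ : ψ ≠ 1) (b : F) [Decidable (b = 0)] :
    ∑ s, ψ (s * b) = if b = 0 then (Fintype.card F : ℂ) else 0 := by
  split_ifs with h
  · simp [h]
  · exact sum_psi_linear (Y := F) hψ ((LinearMap.id : F →ₗ[F] F).smulRight b) (by
      intro e
      have := DFunLike.congr_fun e 1
      simp [h] at this)

/-- Fourier coefficients -/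
noncomputable def fhat (ψ : AddChar F ℂ) (f : F → ℂ) (c : F) : ℂ :=
  (Fintype.card F : ℂ)⁻¹ * ∑ y, f y * ψ (-(c * y))

theorem sum_fhat {ψ : AddChar F ℂ} (hψ : ψ ≠ 1) (f : F → ℂ) (d : F) :
    ∑ c, fhat ψ f c * ψ (c * d) = f d := by
  classical
  simp only [fhat, mul_assoc, ← Finset.mul_sum, Finset.sum_mul]
  rw [Finset.sum_comm]
  have : ∀ y, ∑ c, f y * (ψ (-(c * y)) * ψ (c * d)) =
      if y = d then f d * Fintype.card F else 0 := by
    intro y
    simp only [← AddChar.map_add_eq_mul, ← Finset.mul_sum]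
    have := sum_psi_mul hψ (d - y)
    simp only [mul_sub, sub_eq_zero] at this
    simp only [neg_add_eq_sub, this]
    by_cases h : y = d
    · simp [h]
    · simp [h, Ne.symm h]
  simp only [this, Finset.sum_ite_eq', Finset.mem_univ, if_true]
  have := card_module_ne_zero hψ F
  field_simp

/-- coefficients of the Gaussian -/
noncomputable def gam (ψ : AddChar F ℂ) (c s : F) : ℂ :=
  fhat ψ (fun y => ψ (c * (y / 2) ^ 2)) s

theorem sum_gam {ψ : AddChar F ℂ} (hψ : ψ ≠ 1) (h2 : (2 : F) ≠ 0) (c y : F) :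
    ∑ s, gam ψ c s * ψ (s * (2 * y)) = ψ (c * y ^ 2) := by
  simp only [gam]
  rw [sum_fhat hψ, mul_div_cancel_left₀ _ h2]

theorem gam_neg (ψ : AddChar F ℂ) (c s : F) : gam ψ c (-s) = gam ψ c s := by
  simp only [gam, fhat]
  congr 1
  refine Fintype.sum_equiv (Equiv.neg F) _ _ fun y => ?_
  simp [neg_div]

end Gauss

variable {F : Type*} [Field F] [Fintype F] {E : Type*} [AddCommGroup E] [Module F E]
  [FiniteDimensional F E] [Fintype E]

/-- a Heisenberg system -/
structure Heis (B : Bil F E) (ψ : AddChar F ℂ) (W : Type*) [AddCommGroup W] [Module ℂ W] where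
  h : E → Module.End ℂ W
  mul : ∀ u v, h u * h v = ψ (B v u) • h (u + v)
  zero : h 0 = 1
  dim : finrank ℂ W * finrank ℂ W = Fintype.card E
  sp : IsSp B
  psi : ψ ≠ 1
  two : (2 : F) ≠ 0

namespace Heis

variable {B : Bil F E} {ψ : AddChar F ℂ} {W : Type*} [AddCommGroup W] [Module ℂ W]
  [FiniteDimensional ℂ W] (H : Heis B ψ W)

theorem mul_neg (u : E) : H.h u * H.h (-u) = 1 := by
  simp [H.mul, H.sp.alt, H.zero]

theorem neg_mul (u : E) : H.h (-u) * H.h u = 1 := by
  simp [H.mul, H.sp.alt, H.zero]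

theorem comm (u v : E) : H.h u * H.h v = ψ (2 * B v u) • (H.h v * H.h u) := by
  rw [H.mul, H.mul, smul_smul, ← AddChar.map_add_eq_mul, add_comm v u, H.sp.skew v u]
  congr 2
  ring

include H in
theorem dim_ne_zero : (finrank ℂ W : ℂ) ≠ 0 := by
  have := H.dim
  have h2 : 0 < Fintype.card E := Fintype.card_pos
  rw [Nat.cast_ne_zero]
  intro h
  rw [h] at this
  omega

theorem trace_h [DecidableEq E] (v : E) :
    LinearMap.trace ℂ W (H.h v) = if v = 0 then (finrank ℂ W : ℂ) else 0 := by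
  split_ifs with hv
  · rw [hv, H.zero, LinearMap.trace_one]
  · by_contra h0
    apply hv
    refine H.sp.nondeg v fun u => ?_
    refine (mul_eq_zero.mp (eq_zero_of_psi H.psi (x := 2 * B v u) fun c => ?_)).resolve_left H.two
    have e := congrArg (fun A => LinearMap.trace ℂ W (A * H.h (-(c • u)))) (H.comm (c • u) v)
    simp only [smul_mul_assoc, mul_assoc, H.mul_neg, mul_one, map_smul, smul_eq_mul] at e
    rw [LinearMap.trace_mul_comm, mul_assoc, H.neg_mul, mul_one] at e
    have := mul_right_cancel₀ h0 ((one_mul _).trans e)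
    rw [this]
    congr 1
    ring

theorem linearIndependent : LinearIndependent ℂ H.h := by
  classical
  rw [Fintype.linearIndependent_iff]
  intro a ha u
  have e := congrArg (fun A => LinearMap.trace ℂ W (A * H.h (-u))) ha
  simp only [Finset.sum_mul, smul_mul_assoc, H.mul, map_sum, map_smul, H.trace_h, zero_mul,
    map_zero, add_neg_eq_zero] at e
  rw [Finset.sum_eq_single u] at e
  · simpa [H.sp.alt, H.dim_ne_zero] using e
  · intro v _ hv; simp [hv]
  · simp

/-- the Heisenberg operators form a basis -/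
noncomputable def basis : Basis E ℂ (Module.End ℂ W) :=
  basisOfLinearIndependentOfCardEqFinrank' H.h H.linearIndependent (by
    rw [← H.dim, Module.finrank_linearMap])

theorem basis_apply (v : E) : H.basis v = H.h v := by simp [basis]

theorem sum_repr (A : Module.End ℂ W) : ∑ v, H.basis.repr A v • H.h v = A := by
  simpa only [basis_apply] using H.basis.sum_repr A

theorem eq_of_sum_eq {a b : E → ℂ} (h : ∑ v, a v • H.h v = ∑ v, b v • H.h v) : a = b := by
  have := Fintype.linearIndependent_iff.mp H.linearIndependent (a - b) (by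
    simp only [Pi.sub_apply, sub_smul, Finset.sum_sub_distrib, h, sub_self])
  exact funext fun v => sub_eq_zero.mp (this v)

theorem eq_smul_of_commute {A : Module.End ℂ W} (h : ∀ v, A * H.h v = H.h v * A) :
    ∃ c : ℂ, A = c • 1 := by
  classical
  refine ⟨H.basis.repr A 0, ?_⟩
  conv_lhs => rw [← H.sum_repr A]
  rw [Finset.sum_eq_single 0]
  · rw [H.zero]
  · intro v _ hv
    by_contra h0
    have h1 : H.basis.repr A v ≠ 0 := fun e => h0 (by rw [e, zero_smul])
    apply hv
    refine H.sp.nondeg v fun u => ?_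
    refine (mul_eq_zero.mp (eq_zero_of_psi H.psi (x := 2 * B v u) fun c => ?_)).resolve_left H.two
    have e : ∑ x, (H.basis.repr A x * ψ (2 * B x (c • u))) • H.h x =
        ∑ x, H.basis.repr A x • H.h x := by
      rw [H.sum_repr]
      have : A = H.h (c • u) * A * H.h (-(c • u)) := by
        rw [← h, mul_assoc, H.mul_neg, mul_one]
      conv_rhs => rw [this, ← H.sum_repr A]
      simp only [Finset.mul_sum, Finset.sum_mul, mul_smul_comm, smul_mul_assoc]
      refine Finset.sum_congr rfl fun x _ => ?_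
      rw [H.comm (c • u) x, smul_mul_assoc, mul_assoc, H.mul_neg, mul_one, smul_smul]
    have := congrFun (H.eq_of_sum_eq e) v
    rw [← mul_left_cancel₀ h1 (this.trans (mul_one _).symm)]
    congr 1
    simp only [map_smul, smul_eq_mul, RingHom.id_apply]
    ring
  · simp

theorem le_of_heis {L : Submodule F E} (hL : ∀ x ∈ L, ∀ y ∈ L, B x y = 0) (P : Submodule ℂ W)
    (h : ∀ (l : Dual F L) (z : W), (∀ x : L, H.h x z = ψ (2 * l x) • z) → z ∈ P) (z : W) :
    z ∈ P := by
  have : Finite (Dual F L) := Module.finite_of_finite F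
  have := Fintype.ofFinite (Dual F L)
  have := Fintype.ofFinite L
  refine le_of_Wt (fun x : L => H.h x) H.zero (fun x y => by simp [H.mul, hL _ y.2 _ x.2])
    (fun (l : Dual F L) x => ψ (2 * l x)) (by simp)
    (fun l x y => by simp [mul_add, AddChar.map_add_eq_mul])
    (fun x hx => sum_psi_linear H.psi ((2 : F) • Dual.eval F L x) ?_)
    (card_module_ne_zero H.psi _) ⊤ P (fun _ _ _ => Submodule.mem_top)
    (fun l v _ hv => h l v hv) Submodule.mem_top
  intro h0
  obtain ⟨f, h1, -⟩ := sep_vec (F := F) ⊥ x (by simpa using hx)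
  have := DFunLike.congr_fun h0 f
  simp [h1, H.two] at this

theorem ext_of_heis {L : Submodule F E} (hL : ∀ x ∈ L, ∀ y ∈ L, B x y = 0)
    {A A' : Module.End ℂ W}
    (h : ∀ (l : Dual F L) (z : W), (∀ x : L, H.h x z = ψ (2 * l x) • z) → A z = A' z) :
    A = A' := by
  ext z
  have := H.le_of_heis hL (LinearMap.ker (A - A')) (fun l z hz => by simp [h l z hz]) z
  simpa [sub_eq_zero] using this

/-- the operator of a transvection -/
noncomputable def T (w : E) (c : F) : Module.End ℂ W := ∑ s, gam ψ c s • H.h (s • w)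

theorem T_apply {w : E} {y : F} {z : W} (hz : ∀ s : F, H.h (s • w) z = ψ (2 * (s * y)) • z)
    (c : F) : H.T w c z = ψ (c * y ^ 2) • z := by
  simp only [T, LinearMap.sum_apply, LinearMap.smul_apply, hz, smul_smul, ← Finset.sum_smul]
  rw [← sum_gam H.psi H.two]
  congr 1
  refine Finset.sum_congr rfl fun s _ => ?_
  congr 2
  ring

theorem T_apply' {L : Submodule F E} {l : Dual F L} {z : W}
    (hz : ∀ x : L, H.h x z = ψ (2 * l x) • z) (x : L) (c : F) :
    H.T x c z = ψ (c * l x ^ 2) • z :=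
  H.T_apply (fun s => by simpa using hz (s • x)) c

include H in
theorem iso_span (w : E) : ∀ x ∈ F ∙ w, ∀ y ∈ F ∙ w, B x y = 0 := by
  intro x hx y hy
  obtain ⟨a, rfl⟩ := Submodule.mem_span_singleton.mp hx
  obtain ⟨b, rfl⟩ := Submodule.mem_span_singleton.mp hy
  simp [H.sp.alt]

theorem T_add (w : E) (c c' : F) : H.T w (c + c') = H.T w c * H.T w c' := by
  refine H.ext_of_heis (H.iso_span w) fun l z hz => ?_
  have := H.T_apply' hz ⟨w, Submodule.mem_span_singleton_self w⟩
  simp only at this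
  rw [Module.End.mul_apply, this, this, map_smul, this, smul_smul, ← AddChar.map_add_eq_mul]
  congr 2
  ring

theorem T_zero (w : E) : H.T w 0 = 1 := by
  refine H.ext_of_heis (H.iso_span w) fun l z hz => ?_
  have := H.T_apply' hz ⟨w, Submodule.mem_span_singleton_self w⟩
  simp only at this
  simp [this]

theorem T_zero_left (c : F) : H.T 0 c = 1 := by
  ext z
  rw [H.T_apply (y := 0) (fun s => by simp [H.zero])]
  simp

theorem T_mul_h (w : E) (c : F) (v : E) :
    H.T w c * H.h v = H.h (isoAct B (H.sp.transv w c) v) * H.T w c := by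
  refine H.ext_of_heis (H.iso_span w) fun l z hz => ?_
  obtain ⟨y, hy⟩ : ∃ y, y = l ⟨w, Submodule.mem_span_singleton_self w⟩ := ⟨_, rfl⟩
  have h1 : ∀ s : F, H.h (s • w) z = ψ (2 * (s * y)) • z := fun s => by
    have := hz (s • ⟨w, Submodule.mem_span_singleton_self w⟩)
    rwa [map_smul, ← hy] at this
  have h2 : ∀ s : F, H.h (s • w) (H.h v z) = ψ (2 * (s * (y + B v w))) • H.h v z := fun s => by
    rw [← Module.End.mul_apply, H.comm, LinearMap.smul_apply, Module.End.mul_apply, h1, map_smul (H.h v),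
      smul_smul, ← AddChar.map_add_eq_mul]
    congr 2
    simp only [map_smul, smul_eq_mul, RingHom.id_apply]
    ring
  have h3 := congrArg (fun A : Module.End ℂ W => ψ (c * B v w ^ 2) • A z)
    (H.mul v ((c * B v w) • w))
  simp only [Module.End.mul_apply, h1, map_smul, LinearMap.smul_apply, smul_smul,
    ← AddChar.map_add_eq_mul, smul_eq_mul, H.sp.skew v w] at h3
  rw [show c * B v w ^ 2 + c * B v w * -B v w = 0 by ring, AddChar.map_zero_eq_one, one_smul] at h3
  rw [Module.End.mul_apply, Module.End.mul_apply, H.T_apply h2, H.T_apply h1, tr_apply, map_smul,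
    ← h3, smul_smul, ← AddChar.map_add_eq_mul]
  congr 2
  ring

/-- the parity operator -/
noncomputable def par : Module.End ℂ W := (finrank ℂ W : ℂ)⁻¹ • ∑ v, H.h v

theorem trace_par : LinearMap.trace ℂ W H.par = 1 := by
  classical
  simp [par, H.trace_h, H.dim_ne_zero]

theorem par_mul_par : H.par * H.par = 1 := by
  classical
  rw [par, smul_mul_assoc, mul_smul_comm, smul_smul]
  simp only [Finset.sum_mul, Finset.mul_sum, H.mul]
  have : ∀ v, ∑ u, ψ (B v u) • H.h (u + v) = ∑ s, ψ (B v s) • H.h s := fun v =>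
    Fintype.sum_equiv (Equiv.addRight v) _ _ fun u => by simp [H.sp.alt]
  simp only [this]
  rw [Finset.sum_comm]
  simp only [← Finset.sum_smul]
  rw [Finset.sum_eq_single 0]
  · have := H.dim_ne_zero
    simp only [map_zero, AddChar.map_zero_eq_one, Finset.sum_const, Finset.card_univ, ← H.dim,
      nsmul_eq_mul, mul_one, H.zero, smul_smul, Nat.cast_mul]
    rw [show (finrank ℂ W : ℂ)⁻¹ * (finrank ℂ W : ℂ)⁻¹ * (finrank ℂ W * finrank ℂ W) = 1 by
      field_simp, one_smul]
  · intro s _ hs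
    have := sum_psi_linear H.psi (B.flip s) (fun e => hs (H.sp.isEps.nondeg' s fun u =>
      DFunLike.congr_fun e u))
    simp only [LinearMap.flip_apply] at this
    rw [this, zero_smul]
  · simp

/-- `M` intertwines the action of `g` -/
def Int (g : Isom B) (M : Module.End ℂ W) : Prop :=
  IsUnit M ∧ ∀ v, M * H.h v = H.h (isoAct B g v) * M

theorem Int.mul {g g' : Isom B} {M M' : Module.End ℂ W} (h : H.Int g M) (h' : H.Int g' M') :
    H.Int (g * g') (M * M') :=
  ⟨h.1.mul h'.1, fun v => by rw [mul_assoc, h'.2, ← mul_assoc, h.2, act_mul_apply, mul_assoc]⟩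

theorem int_T (w : E) (c : F) : H.Int (H.sp.transv w c) (H.T w c) :=
  ⟨⟨⟨H.T w c, H.T w (-c), by rw [← H.T_add, add_neg_cancel, H.T_zero],
    by rw [← H.T_add, neg_add_cancel, H.T_zero]⟩, rfl⟩, H.T_mul_h w c⟩

theorem Int.inv {g : Isom B} {M : (Module.End ℂ W)ˣ} (h : H.Int g M) :
    H.Int g⁻¹ (M⁻¹ : (Module.End ℂ W)ˣ) :=
  ⟨Units.isUnit _, fun v => by
    rw [Units.inv_mul_eq_iff_eq_mul, ← mul_assoc, h.2, act_apply_inv, Units.mul_inv_cancel_right]⟩

theorem exists_int (g : Isom B) : ∃ M, H.Int g M := by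
  let S : Subgroup (Isom B) :=
    { carrier := {g | ∃ M, H.Int g M}
      mul_mem' := fun ⟨M, h⟩ ⟨M', h'⟩ => ⟨M * M', Int.mul H h h'⟩
      one_mem' := ⟨1, isUnit_one, fun v => by simp⟩
      inv_mem' := by
        rintro g ⟨M, h⟩
        obtain ⟨M, rfl⟩ := h.1
        exact ⟨_, Int.inv H h⟩ }
  have := sp_eq_top H.sp S fun v c => ⟨_, H.int_T v c⟩
  have h2 : g ∈ S := this ▸ Subgroup.mem_top g
  exact h2

theorem Int.unique {g : Isom B} {M M' : Module.End ℂ W} (h : H.Int g M) (h' : H.Int g M') :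
    ∃ c : ℂ, M' = c • M := by
  obtain ⟨M, rfl⟩ := h.1
  have := Int.mul H (Int.inv H h) h'
  obtain ⟨c, hc⟩ := H.eq_smul_of_commute (fun v => by simpa using this.2 v)
  rw [Units.inv_mul_eq_iff_eq_mul] at hc
  exact ⟨c, by simpa using hc⟩

theorem Int.comm_par {g : Isom B} {M : Module.End ℂ W} (h : H.Int g M) :
    M * H.par = H.par * M := by
  simp only [par, smul_mul_assoc, mul_smul_comm, Finset.sum_mul, Finset.mul_sum, h.2]
  congr 1
  exact Fintype.sum_equiv g.1.toEquiv _ _ fun v => rfl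

/-- the eigenspaces of the parity operator -/
noncomputable def Wp (ε : ℂ) : Submodule ℂ W := LinearMap.ker (H.par - ε • 1)

theorem mem_Wp {ε : ℂ} {z : W} : z ∈ H.Wp ε ↔ H.par z = ε • z := by
  simp [Wp, sub_eq_zero]

theorem Int.maps {g : Isom B} {M : Module.End ℂ W} (h : H.Int g M) (ε : ℂ) :
    ∀ z ∈ H.Wp ε, M z ∈ H.Wp ε := by
  intro z hz
  rw [mem_Wp] at hz ⊢
  rw [← Module.End.mul_apply, ← Int.comm_par H h, Module.End.mul_apply, hz, map_smul]

theorem par_par (z : W) : H.par (H.par z) = z := by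
  rw [← Module.End.mul_apply, H.par_mul_par, Module.End.one_apply]

theorem isCompl_Wp : IsCompl (H.Wp 1) (H.Wp (-1)) := by
  constructor
  · rw [Submodule.disjoint_def]
    intro z h1 h2
    rw [mem_Wp] at h1 h2
    have : (2 : ℂ) • z = 0 := by
      rw [h1] at h2
      rw [two_smul]
      simp only [one_smul, neg_smul] at h2
      exact add_eq_zero_iff_eq_neg.mpr h2
    simpa using this
  · rw [codisjoint_iff, eq_top_iff]
    intro z _
    have : z = (2⁻¹ : ℂ) • (z + H.par z) + (2⁻¹ : ℂ) • (z - H.par z) := by module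
    rw [this]
    refine Submodule.add_mem_sup (Submodule.smul_mem _ _ ?_) (Submodule.smul_mem _ _ ?_)
    · simp [mem_Wp, H.par_par, add_comm]
    · simp [mem_Wp, H.par_par]

theorem finrank_Wp : finrank ℂ (H.Wp 1) = finrank ℂ (H.Wp (-1)) + 1 := by
  have h1 : LinearMap.IsProj (H.Wp 1) ((2⁻¹ : ℂ) • (1 + H.par)) :=
    ⟨fun z => Submodule.smul_mem _ _ (by simp [mem_Wp, H.par_par, add_comm]), fun z hz => by
      rw [mem_Wp] at hz
      simp only [LinearMap.smul_apply, LinearMap.add_apply, Module.End.one_apply, hz]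
      module⟩
  have h2 := h1.trace
  have h3 := Submodule.finrank_add_eq_of_isCompl H.isCompl_Wp
  rw [map_smul, map_add, H.trace_par, LinearMap.trace_one, ← h3] at h2
  simp only [smul_eq_mul, Nat.cast_add] at h2
  have : (finrank ℂ (H.Wp 1) : ℂ) = finrank ℂ (H.Wp (-1)) + 1 := by linear_combination -2 * h2
  exact_mod_cast this

theorem finrank_Wp' : 2 * finrank ℂ (H.Wp (-1)) + 1 = finrank ℂ W := by
  have h3 := Submodule.finrank_add_eq_of_isCompl H.isCompl_Wp
  have := H.finrank_Wp
  omega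

theorem Int.rdet_ne {g : Isom B} {M : Module.End ℂ W} (h : H.Int g M) (ε : ℂ) :
    rdet (H.Wp ε) M ≠ 0 :=
  rdet_ne_zero (Int.maps H h ε) ((Module.End.isUnit_iff M).mp h.1).1

theorem exists_norm (g : Isom B) :
    ∃ M, H.Int g M ∧ rdet (H.Wp 1) M = rdet (H.Wp (-1)) M := by
  obtain ⟨M, h⟩ := H.exists_int g
  have h1 := Int.rdet_ne H h 1
  have h2 := Int.rdet_ne H h (-1)
  have hc : rdet (H.Wp (-1)) M / rdet (H.Wp 1) M ≠ 0 := div_ne_zero h2 h1
  refine ⟨(rdet (H.Wp (-1)) M / rdet (H.Wp 1) M) • M, ⟨?_, fun v => ?_⟩, ?_⟩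
  · exact h.1.smul (Units.mk0 _ hc)
  · rw [smul_mul_assoc, h.2, mul_smul_comm]
  · rw [rdet_smul (Int.maps H h 1), rdet_smul (Int.maps H h (-1)), H.finrank_Wp, pow_succ]
    field_simp

theorem norm_unique {g : Isom B} {M M' : Module.End ℂ W} (h : H.Int g M) (h' : H.Int g M')
    (e : rdet (H.Wp 1) M = rdet (H.Wp (-1)) M) (e' : rdet (H.Wp 1) M' = rdet (H.Wp (-1)) M') :
    M = M' := by
  obtain ⟨c, rfl⟩ := Int.unique H h h'
  have h1 := Int.rdet_ne H h' (-1)
  rw [rdet_smul (Int.maps H h 1), H.finrank_Wp, pow_succ', mul_assoc, e,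
    ← rdet_smul (Int.maps H h (-1))] at e'
  rw [mul_right_cancel₀ h1 (e'.trans (one_mul _).symm), one_smul]

/-- the Weil representation -/
noncomputable def weil : Representation ℂ (Isom B) W where
  toFun g := (H.exists_norm g).choose
  map_one' := H.norm_unique (H.exists_norm 1).choose_spec.1 ⟨isUnit_one, fun v => by simp⟩
    (H.exists_norm 1).choose_spec.2 (by rw [rdet_one, rdet_one])
  map_mul' g g' := by
    obtain ⟨h1, h2⟩ := (H.exists_norm g).choose_spec
    obtain ⟨h3, h4⟩ := (H.exists_norm g').choose_spec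
    refine H.norm_unique (H.exists_norm _).choose_spec.1 (Int.mul H h1 h3)
      (H.exists_norm _).choose_spec.2 ?_
    rw [rdet_mul (Int.maps H h1 _) (Int.maps H h3 _), rdet_mul (Int.maps H h1 _) (Int.maps H h3 _),
      h2, h4]

theorem int_weil (g : Isom B) : H.Int g (H.weil g) := (H.exists_norm g).choose_spec.1

theorem rdet_weil (g : Isom B) : rdet (H.Wp 1) (H.weil g) = rdet (H.Wp (-1)) (H.weil g) :=
  (H.exists_norm g).choose_spec.2

theorem weil_mul_T (g : Isom B) (w : E) (c : F) :
    H.weil g * H.T w c = H.T (isoAct B g w) c * H.weil g := by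
  simp only [T, Finset.mul_sum, Finset.sum_mul, mul_smul_comm, smul_mul_assoc, (H.int_weil g).2,
    map_smul]

theorem weil_transv (h4 : 4 ≤ finrank F E) (w : E) (c : F) :
    H.weil (H.sp.transv w c) = H.T w c := by
  refine H.norm_unique (H.int_weil _) (H.int_T w c) (H.rdet_weil _) ?_
  by_cases hw : w = 0
  · rw [hw, H.T_zero_left, rdet_one, rdet_one]
  let d : E → F → ℂ := fun w c => rdet (H.Wp 1) (H.T w c) / rdet (H.Wp (-1)) (H.T w c)
  have hm : ∀ u a v b, rdet (H.Wp 1) (H.T u a * H.T v b) / rdet (H.Wp (-1)) (H.T u a * H.T v b) =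
      d u a * d v b := by
    intro u a v b
    rw [rdet_mul (Int.maps H (H.int_T _ _) _) (Int.maps H (H.int_T _ _) _),
      rdet_mul (Int.maps H (H.int_T _ _) _) (Int.maps H (H.int_T _ _) _), mul_div_mul_comm]
  have hd0 : ∀ u a, d u a ≠ 0 := fun u a =>
    div_ne_zero (Int.rdet_ne H (H.int_T _ _) _) (Int.rdet_ne H (H.int_T _ _) _)
  have hc : ∀ u, u ≠ 0 → ∀ a, d u a = d w a := by
    intro u hu a
    obtain ⟨g, rfl⟩ := sp_move H.sp hw hu
    have e := H.weil_mul_T g w a
    have e1 := congrArg (rdet (H.Wp 1)) e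
    have e2 := congrArg (rdet (H.Wp (-1))) e
    rw [rdet_mul (Int.maps H (H.int_weil _) _) (Int.maps H (H.int_T _ _) _),
      rdet_mul (Int.maps H (H.int_T _ _) _) (Int.maps H (H.int_weil _) _), mul_comm] at e1 e2
    simp only [d]
    rw [mul_right_cancel₀ (Int.rdet_ne H (H.int_weil _) _) e1,
      mul_right_cancel₀ (Int.rdet_ne H (H.int_weil _) _) e2]
  have hadd : ∀ a b, d w (a + b) = d w a * d w b := fun a b => by
    rw [← hm, ← H.T_add]
  obtain ⟨L, hwL, -, hL⟩ := exists_lag_pair H.sp (H.sp.alt w)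
  obtain ⟨v, hvL, hv⟩ := exists_not_mem_of_finrank_lt (S := F ∙ w) (T := L)
    (by have := finrank_span_le (F := F) w; have := hL.rk; omega)
  have key : ∀ a, H.T (w + v) a * H.T (w - v) a = H.T w (a + a) * H.T v (a + a) := by
    intro a
    refine H.ext_of_heis hL.iso fun l z hz => ?_
    have e1 := H.T_apply' hz ⟨w, hwL⟩
    have e2 := H.T_apply' hz ⟨v, hvL⟩
    have e3 := H.T_apply' hz (⟨w, hwL⟩ + ⟨v, hvL⟩)
    have e4 := H.T_apply' hz (⟨w, hwL⟩ - ⟨v, hvL⟩)
    simp only [Submodule.coe_add, Submodule.coe_sub, map_add, map_sub] at e1 e2 e3 e4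
    simp only [Module.End.mul_apply, e1, e2, e3, e4, map_smul, smul_smul, ← AddChar.map_add_eq_mul]
    congr 2
    ring
  have h1 : ∀ a, d w (a + a) = 1 := by
    intro a
    have e := hm (w + v) a (w - v) a
    rw [key, hm, hc v (by rintro rfl; simp at hv), hc (w + v) (fun e => hv (by
      rw [eq_neg_of_add_eq_zero_right e]
      exact Submodule.neg_mem _ (Submodule.mem_span_singleton_self w))),
      hc (w - v) (fun e => hv (by
        rw [← sub_eq_zero.mp e]; exact Submodule.mem_span_singleton_self w)), ← hadd a a] at e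
    exact mul_left_cancel₀ (hd0 _ _) (e.trans (mul_one _).symm)
  have h2 := h1 (c / 2)
  rw [show c / 2 + c / 2 = c by have := H.two; field_simp; ring] at h2
  exact (div_eq_one_iff_eq (Int.rdet_ne H (H.int_T _ _) _)).mp h2

end Heis

end Cfsg.Agent.H1
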