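import Cfsg.Agent.H1.MIU6

/-!
# Minimal index of `SU₄(q)`: the weights are isotropic
-/

set_option autoImplicit false
set_option linter.unusedSectionVars false

namespace Cfsg.Agent.H1

open Module H5 Finset

theorem HP.budget1 {F : Type*} [Field F] {G E M : Type*} [Group G] [AddCommGroup E]
    [AddCommGroup M] {D : HD G E M} {Γ : Type*} [AddCommGroup Γ] (P : HP F D Γ) {X : Type*}
    [MulAction G X] [Finite E] [Finite M] [Finite Γ] [Finite X] {p : X → Prop}
    (hp : ∀ ω ω', D.Eqv ω ω' → p ω → p ω') (C : Set E) (l k : ℕ)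
    (h : ∀ w ∈ C, ∃ L : Set Γ, l ≤ Nat.card L ∧ ∀ g ∈ L, ∃ t : Finset X, k ≤ t.card ∧
      (∀ ω ∈ t, ∀ ω' ∈ t, D.Eqv ω ω' → ω = ω') ∧ ∀ ω ∈ t, p ω ∧ g ∈ P.Lv ω ∧ w ∈ P.T ω) :
    Nat.card C * (l * k) ≤ P.κ * Nat.card {ω // p ω} := by
  classical
  have := Fintype.ofFinite E
  have := Fintype.ofFinite Γ
  choose! L h1 h2 using h
  refine le_trans ?_ (P.budget hp (fun g w => if w ∈ C then if g ∈ L w then k else 0 else 0)
    fun g w => ?_)
  · rw [Finset.sum_comm, Nat.card_eq_fintype_card, Fintype.card_subtype, Finset.card_filter,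
      Finset.sum_mul]
    refine Finset.sum_le_sum fun w _ => ?_
    split_ifs with h
    · have := h1 w h
      rw [Nat.card_eq_fintype_card, Fintype.card_subtype] at this
      simpa [Finset.sum_ite] using Nat.mul_le_mul_right k this
    · simp
  · split_ifs with h3 h4
    · exact h2 w h3 g h4
    · exact ⟨∅, by simp⟩
    · exact ⟨∅, by simp⟩

variable {F : Type*} [Field F] {σ : F →+* F} {E : Type*} [AddCommGroup E] [Module F E]
  [FiniteDimensional F E] {B : Sesq σ E} (hB : IsEps B 1) [Fintype F] {q : ℕ} (hU : UF σ q)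
  {X : Type*} [MulAction (SUb B) X] [Finite X] {e : E} (he : B e e = 0) (he0 : e ≠ 0)

theorem eqv_conj {g : SUb B} {a : F} (hg : suAct B g e = a • e) (ha : a ≠ 0) {ω ω' : X}
    (h : (uD hB he).Eqv ω ω') : (uD hB he).Eqv (g • ω) (g • ω') := by
  obtain ⟨x, μ, h1, rfl⟩ := (uD hB he).eqv_iff.mp h
  obtain ⟨h2, h3⟩ := ei_conj_e hB hg ha h1
  refine (uD hB he).eqv_iff.mpr ⟨_, _, h2, ?_⟩
  change ei hB _ _ _ • g • ω = g • ei hB _ _ _ • ω
  rw [← mul_smul, ← h3, mul_smul]

theorem eqv_conj' {g : SUb B} {a : F} (hg : suAct B g e = a • e) (ha : a ≠ 0) {ω ω' : X}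
    (h : (uD hB he).Eqv (g • ω) (g • ω')) : (uD hB he).Eqv ω ω' := by
  simpa using eqv_conj hB he (inv_e hg ha) (inv_ne_zero ha) h

theorem uT_conj' {ω : X} {g : SUb B} {a : F} (hg : suAct B g e = a • e) (ha : a ≠ 0) {w : E} :
    a⁻¹ • suAct B g w ∈ (uP hB hU he he0).T (g • ω) ↔ w ∈ (uP hB hU he he0).T ω :=
  ⟨fun h => by
    simpa [act_inv_apply, ha] using uT_conj hB hU he he0 (inv_e hg ha) (inv_ne_zero ha) h,
   uT_conj hB hU he he0 hg ha⟩

variable (h4 : finrank F E = 4)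

include hB hU h4 in
theorem exists_aniso_four {e w : E} (hw : B w w ≠ 0) : ∃ u, B u u ≠ 0 ∧ B u e = 0 ∧ B u w = 0 := by
  obtain ⟨u, hu, hu'⟩ := hU.exists_aniso (B := B) (W := perp B ((F ∙ e) ⊔ F ∙ w)) fun hle => by
    rw [hB.perp_perp] at hle
    have h1 := hB.finrank_perp ((F ∙ e) ⊔ F ∙ w)
    have h2 := finrank_two_le (F := F) e w
    have h3 := Submodule.eq_of_le_of_finrank_le hle (by omega)
    exact hw (mem_perp_two.mp (h3 ▸ mem_span_pair'.mpr ⟨0, 1, by simp⟩ : w ∈ _)).2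
  exact ⟨u, hu', mem_perp_two.mp hu⟩

include hB hU h4 he he0 in
theorem card_NI : q ^ 2 * ((q - 1) * (q * (q ^ 2 - 1))) ≤
    Nat.card {w | B w e = 0 ∧ B w w ≠ 0} := by
  classical
  have := finite_of_finiteDimensional F E
  have := Fintype.ofFinite {c : Kf σ // c ≠ 0}
  have h1 : Nat.card (Σ c : {c : Kf σ // c ≠ 0}, cls B e c.1) ≤
      Nat.card {w | B w e = 0 ∧ B w w ≠ 0} :=
    Nat.card_le_card_of_injective (fun p => ⟨p.2.1, p.2.2.1, fun h =>
      p.1.2 (Subtype.ext (p.2.2.2.2.symm.trans h))⟩) (by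
        rintro ⟨c, w⟩ ⟨c', w'⟩ h
        have h2 : w.1 = w'.1 := congrArg Subtype.val h
        obtain rfl : c = c' := Subtype.ext (Subtype.ext (by rw [← w.2.2.2, ← w'.2.2.2, h2]))
        obtain rfl : w = w' := Subtype.ext h2
        rfl)
  refine le_trans ?_ h1
  rw [Nat.card_sigma]
  refine le_trans ?_ (Finset.sum_le_sum fun c _ => card_cls hB hU (k := 1) h4 he he0 c.1.2)
  rw [Finset.sum_congr rfl (g := fun _ => q ^ 2 * (q * (q ^ 2 - 1))) fun c _ => by
    rw [if_neg fun h : (c.1 : F) = 0 => c.2 (Subtype.ext h), uq, if_pos (by decide), pow_one],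
    Finset.sum_const, card_univ, smul_eq_mul, ← Nat.card_eq_fintype_card]
  have := card_add_card_not fun c : Kf σ => c = 0
  rw [card_Kf hU, Nat.card_unique] at this
  rw [Nat.eq_sub_of_add_eq' this]
  exact le_of_eq (by ring)

include h4 in
theorem su4_budget {w : E} (hw : B w w ≠ 0) (hwe : B w e = 0) (L : Set (Kf σ)) (t : Finset X)
    (h1 : ∀ ω ∈ t, ∀ ω' ∈ t, (uD hB he).Eqv ω ω' → ω = ω')
    (h2 : ∀ ω ∈ t, (∀ γ ∈ L, γ ∈ (uP hB hU he he0).Lv ω) ∧ w ∈ (uP hB hU he he0).T ω) :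
    (q - 1) * (q * (q ^ 2 - 1)) * (Nat.card L * t.card) ≤ Nat.card X := by
  classical
  have := finite_of_finiteDimensional F E
  have h3 := (uP hB hU he he0).budget1 (p := fun _ : X => True) (fun _ _ _ _ => trivial)
    {w | B w e = 0 ∧ B w w ≠ 0} (Nat.card L) t.card (by
      rintro w' ⟨h5, h6⟩
      obtain ⟨a, ha⟩ := hU.exists_smul_unit hB.herm h6 (hB.herm_self w)
      have ha0 : a ≠ 0 := by rintro rfl; exact hw (by simpa using ha.symm)
      obtain ⟨u, hu, hue, huw⟩ := exists_aniso_four hB hU h4 (e := e) hw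
      have hn : ∀ (s : F) (x : E), B x x ≠ 0 → x ∉ F ∙ s • e := fun s x hx hh => by
        obtain ⟨r, rfl⟩ := Submodule.mem_span_singleton.mp hh
        simp [he] at hx
      obtain ⟨g, hg, hgw⟩ := su_move2 hB hU he0 (smul_ne_zero ha0 he0) (w := w) (w' := a • w')
        (by simpa using hn 1 w hw) (hn _ _ (ha ▸ hw)) (by simp [he]) (by simp [h5, hwe]) ha hu hue huw
      have hN : a * σ a ≠ 0 := by simp [ha0]
      refine ⟨{γ | ∃ γ' ∈ L, a * σ a * (γ : F) = γ'}, Nat.card_le_card_of_injective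
        (fun γ => ⟨⟨γ.1 / (a * σ a), by
          change σ _ = _
          rw [map_div₀, hU.norm_fixed, show σ γ.1 = γ.1 from γ.1.2]⟩, γ.1, γ.2,
          mul_div_cancel₀ _ hN⟩) fun γ γ' h => Subtype.ext (Subtype.ext (by simpa [ha0] using h)), ?_⟩
      rintro γ ⟨γ', k1, k2⟩
      refine ⟨t.image (g • ·), (Finset.card_image_of_injective _ (MulAction.injective g)).ge, ?_, ?_⟩
      · simp only [mem_image]
        rintro _ ⟨ω, k3, rfl⟩ _ ⟨ω', k4, rfl⟩ h
        rw [h1 ω k3 ω' k4 (eqv_conj' hB he hg ha0 h)]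
      · simp only [mem_image]
        rintro _ ⟨ω, k3, rfl⟩
        refine ⟨trivial, uLv_conj hB hU he he0 hg ha0 k2 ((h2 ω k3).1 _ k1), ?_⟩
        simpa [hgw, ha0] using uT_conj hB hU he he0 hg ha0 (h2 ω k3).2)
  rw [Nat.card_congr (Equiv.subtypeUnivEquiv fun _ => trivial)] at h3
  refine Nat.le_of_mul_le_mul_left (le_trans ?_ h3) (pow_pos hU.pos 2)
  rw [← mul_assoc]
  exact Nat.mul_le_mul_right _ (card_NI hB hU he he0 h4)

variable (hd : Nat.card X < (q + 1) * (q ^ 3 + 1))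

theorem two_le_card_uLv {ω : X} (h : ¬XX hB ω e) : 2 ≤ Nat.card ((uP hB hU he he0).Lv ω) := by
  obtain ⟨γ, h1, h2⟩ := exists_uLv hB hU he he0 h
  exact Finite.one_lt_card_iff_nontrivial.mpr ⟨⟨⟨γ, h1⟩, 0, fun h => h2 (congrArg Subtype.val h)⟩⟩

include h4 hd in
theorem su4_inv (hq : q = 2) {ω : X} (h : ¬XX hB ω e) {w f v : E} (hw : B w w ≠ 0)
    (hwT : w ∈ (uP hB hU he he0).T ω) (hf : B f f = 0) (hfe : B f e = 1) (hwf : B w f = 0)
    (hv : v ∈ (uP hB hU he he0).T ω) (s : F) :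
    s • (v - B v f • e - (B v w / B w w) • w) ∈ (uP hB hU he he0).T ω := by
  classical
  have := finite_of_finiteDimensional F E
  obtain ⟨a, ha⟩ := hU.exists_ne
  have hσ : ∀ x, σ x = x ^ 2 := fun x => by rw [hU.apply, hq]
  have h2 : (2 : F) = 0 := by simpa [hq] using hU.cast_q
  have hp4 : ∀ x : F, x ^ 4 = x := fun x => by
    have := FiniteField.pow_card x
    rwa [hU.card, hq] at this
  have ha0 : a ≠ 0 := by rintro rfl; simp at ha
  have ha1 : a ≠ 1 := by rintro rfl; simp at ha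
  have ha3 : a ^ 2 + a + 1 = 0 := by
    have : a * (a - 1) * (a ^ 2 + a + 1) = 0 := by linear_combination hp4 a
    simpa [ha0, sub_eq_zero, ha1] using this
  have hai : a⁻¹ = a ^ 2 := by field_simp; linear_combination (1 - a) * ha3
  have hef : B e f = 1 := by rw [hB.herm, hfe, map_one]
  have hwe := uT_perp hB hU he he0 hwT
  obtain ⟨g, hg⟩ := exists_tor hB he hf hfe hw hwe hwf ha0
  have hge : suAct B g e = a • e := by simp [hg, hef, he, hB.refl hwe, sub_smul]
  have hgw : suAct B g w = a • w := by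
    simp only [hg, hwf, hwe, mul_zero, zero_smul, add_zero, hσ]
    match_scalars; field_simp; ring
  have key : ∀ v ∈ (uP hB hU he he0).T ω, a⁻¹ • suAct B g v ∈ (uP hB hU he he0).T ω := by
    intro v hv
    by_contra hc
    have hgg : suAct B g (suAct B g (suAct B g v)) = v := by
      have hve := uT_perp hB hU he he0 hv
      simp only [hg, map_add, map_smul, LinearMap.add_apply, LinearMap.smul_apply, hve, hwe, hwf,
        he, hef, hB.refl hwe, hσ, smul_eq_mul, mul_zero, zero_smul, add_zero, smul_zero]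
      match_scalars
      · rfl
      · linear_combination (B v f * (a - 1)) * ha3
      · field_simp
        linear_combination (B v w * (a - 1)) * ha3
    have T1 := fun ω' : X => fun v => uT_conj' hB hU he he0 (ω := ω') hge ha0 (w := v)
    have n1 : ¬(uD hB he).Eqv ω (g • ω) := fun h =>
      hc ((uP hB hU he he0).T_eq h ▸ (T1 ω v).mpr hv)
    have n2 : ¬(uD hB he).Eqv (g • ω) (g • g • ω) := fun h => n1 (eqv_conj' hB he hge ha0 h)
    have n3 : ¬(uD hB he).Eqv ω (g • g • ω) := fun h => by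
      have T2 : ∀ v ∈ (uP hB hU he he0).T ω, a⁻¹ • suAct B g (a⁻¹ • suAct B g v) ∈
          (uP hB hU he he0).T ω := fun v hv =>
        (uP hB hU he he0).T_eq h ▸ (T1 _ _).mpr ((T1 _ _).mpr hv)
      have := T2 _ (T2 v hv)
      simp only [map_smul, smul_smul, hgg] at this
      refine hc (by convert this using 2; field_simp; linear_combination (a - 1) * ha3)
    have hLv : ∀ ω' : X, ¬XX hB ω' e → ∀ γ, γ ∈ (uP hB hU he he0).Lv ω' := fun ω' h' γ => by
      have := two_le_card_uLv hB hU he he0 h'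
      rw [AddSubgroup.eq_top_of_le_card ((uP hB hU he he0).Lv ω') (by rw [card_Kf hU]; omega)]
      trivial
    have hX1 := (XX_conj_e hB he hge ha0).not.mpr h
    have hX2 := (XX_conj_e hB he hge ha0).not.mpr hX1
    have hw1 : ∀ ω' : X, w ∈ (uP hB hU he he0).T ω' → w ∈ (uP hB hU he he0).T (g • ω') :=
      fun ω' h => by simpa [hgw, ha0] using (T1 ω' w).mpr h
    have := su4_budget hB hU he he0 h4 hw hwe Set.univ {ω, g • ω, g • g • ω} (by
      simp only [mem_insert, mem_singleton]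
      rintro _ (rfl | rfl | rfl) _ (rfl | rfl | rfl) h
      exacts [rfl, absurd h n1, absurd h n3, absurd h.symm n1, rfl, absurd h n2, absurd h.symm n3,
        absurd h.symm n2, rfl]) (by
      simp only [mem_insert, mem_singleton]
      rintro _ (rfl | rfl | rfl)
      exacts [⟨fun γ _ => hLv _ h γ, hwT⟩, ⟨fun γ _ => hLv _ hX1 γ, hw1 _ hwT⟩,
        ⟨fun γ _ => hLv _ hX2 γ, hw1 _ (hw1 _ hwT)⟩])
    rw [Finset.card_eq_three.mpr ⟨_, _, _, fun h => n1 (by rw [← h]; exact HD.Eqv.refl _ _),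
      fun h => n3 (by rw [← h]; exact HD.Eqv.refl _ _),
      fun h => n2 (by rw [← h]; exact HD.Eqv.refl _ _), rfl⟩, Nat.card_univ, card_Kf hU] at this
    subst hq
    omega
  have key2 : ∀ v ∈ (uP hB hU he he0).T ω,
      a • (v - B v f • e - (B v w / B w w) • w) ∈ (uP hB hU he he0).T ω := by
    intro v hv
    have := AddSubgroup.sub_mem _ (key v hv) hv
    rw [hg, uT_perp hB hU he he0 hv, hai, hσ] at this
    convert this using 1
    match_scalars
    · linear_combination -ha3 + (a + 1) * h2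
    · linear_combination (-B v f * (a - 2)) * ha3 - (B v f) * (a + 1) * h2
    · rw [show a ^ 2 / a = a by field_simp]
      linear_combination (-(B v w / B w w) * a) * ha3 + (B v w / B w w * a ^ 2) * h2
    · ring
  obtain ⟨x, hx⟩ : ∃ x, x = v - B v f • e - (B v w / B w w) • w := ⟨_, rfl⟩
  have hxf : B x f = 0 := by simp [hx, hef, hwf]
  have hxw : B x w = 0 := by simp [hx, hw, hB.refl hwe]
  have key3 : ∀ s : F, s • x ∈ (uP hB hU he he0).T ω → (a * s) • x ∈ (uP hB hU he he0).T ω :=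
    fun s hs => by simpa [hxf, hxw, smul_smul] using key2 _ hs
  have k1 := key2 v hv
  rw [← hx] at k1 ⊢
  have : s * (s - a) * (s - a * a) * (s - a * (a * a)) = 0 := by
    linear_combination hp4 s + (-s ^ 3 * a + s ^ 2 * a ^ 3 - s * (a ^ 4 - a ^ 3 + a - 1)) * ha3
  simp only [mul_eq_zero, sub_eq_zero] at this
  rcases this with ((rfl | rfl) | rfl) | rfl
  exacts [by simp, k1, key3 _ k1, key3 _ (key3 _ k1)]

include h4 hd in
theorem su4_T_iso {ω : X} (h : ¬XX hB ω e) {w : E} (hwT : w ∈ (uP hB hU he he0).T ω) :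
    B w w = 0 := by
  classical
  have := finite_of_finiteDimensional F E
  by_contra hw
  have hwe := uT_perp hB hU he he0 hwT
  have hq := hU.two_le
  by_cases hq2 : q = 2
  swap
  · have h1 := su4_budget hB hU he he0 h4 hw hwe ((uP hB hU he he0).Lv ω) {ω} (by simp)
      (by simpa using hwT)
    have h2 := two_le_card_uLv hB hU he he0 h
    rw [card_singleton, mul_one] at h1
    by_cases hq3 : q = 3
    · have h3 := (uP hB hU he he0).card_Lv ω
      rw [card_Kf hU] at h3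
      have h5 : Nat.card ((uP hB hU he he0).Lv ω) = 3 :=
        ((Nat.dvd_prime Nat.prime_three).mp ⟨_, (h3.trans hq3).symm⟩).resolve_left (by omega)
      subst hq3
      erw [h5] at h1
      omega
    · obtain ⟨r, rfl⟩ : ∃ r, q = r + 4 := ⟨q - 4, by omega⟩
      have h3 := (Nat.mul_le_mul_left _ h2).trans (h1.trans hd.le)
      rw [show (r + 4) ^ 2 - 1 = r ^ 2 + 8 * r + 15 by rw [Nat.sub_eq_of_eq_add]; ring,
        show r + 4 - 1 = r + 3 by omega] at h3
      nlinarith [Nat.zero_le (r ^ 4), Nat.zero_le (r ^ 3), Nat.zero_le (r ^ 2)]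
  obtain ⟨f, hf, hfe, hf'⟩ := exists_partner hB hU he0 he (S := F ∙ w) (fun hh => by
    obtain ⟨s, rfl⟩ := Submodule.mem_span_singleton.mp hh
    simp [hw] at he
    simp [he] at he0) fun s hs => by
      obtain ⟨s, rfl⟩ := Submodule.mem_span_singleton.mp hs
      simp [hB.refl hwe]
  have hef : B e f = 1 := by rw [hB.herm, hfe, map_one]
  have hwf := hB.refl (hf' w (Submodule.mem_span_singleton_self w))
  by_cases h1 : ∀ v ∈ (uP hB hU he he0).T ω, v - B v f • e - (B v w / B w w) • w = 0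
  · obtain ⟨u, hu, hue, huw⟩ := exists_aniso_four hB hU h4 (e := e) hw
    have h2 : ∀ v ∈ (uP hB hU he he0).T ω, B u v = 0 := fun v hv => by
      have := h1 v hv
      rw [sub_sub, sub_eq_zero] at this
      rw [this]
      simp [hue, huw]
    obtain ⟨γ, h3, h5⟩ := exists_uLv hB hU he he0 h
    obtain ⟨η, h6, h7⟩ := uLv_smul hB hU he he0 h3 h5
    have := h2 _ (h7 u ((uP hB hU he he0).mem_A fun v hv => by
      change (uP hB hU he he0).ψ (B u v) = 1
      simp [h2 v hv]))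
    simp [h6, hu] at this
  push Not at h1
  obtain ⟨v, hv, h1⟩ := h1
  have h2 := su4_inv hB hU he he0 h4 hd hq2 h hw hwT hf hfe hwf hv
  obtain ⟨x, hx⟩ : ∃ x, x = v - B v f • e - (B v w / B w w) • w := ⟨_, rfl⟩
  rw [← hx] at h1 h2
  have hxf : B x f = 0 := by simp [hx, hef, hwf]
  have hxw : B x w = 0 := by simp [hx, hw, hB.refl hwe]
  have hxe : B x e = 0 := uT_perp hB hU he he0 (by simpa using h2 1)
  have hxx : B x x ≠ 0 := fun hxx => by
    obtain ⟨d1, d2⟩ := disjoint_sup_hyp hB (disjoint_aniso hB hw) (e := e) (f := f)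
      (mem_perp_one.mpr (hB.refl hwe)) hf' he hf (by simp [hfe])
    have d3 := hB.finrank_perp (((F ∙ w) ⊔ F ∙ e) ⊔ F ∙ f)
    rw [finrank_span_singleton (by rintro rfl; simp at hw)] at d2
    have d4 : x ∈ perp B (((F ∙ w) ⊔ F ∙ e) ⊔ F ∙ f) := by
      rw [perp_sup, Submodule.mem_inf, mem_perp_two, mem_perp_one]; exact ⟨⟨hxw, hxe⟩, hxf⟩
    have d5 : F ∙ x = perp B (((F ∙ w) ⊔ F ∙ e) ⊔ F ∙ f) := Submodule.eq_of_le_of_finrank_eq
      ((Submodule.span_singleton_le_iff_mem _ _).mpr d4) (by rw [finrank_span_singleton h1]; omega)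
    exact h1 (Submodule.disjoint_def.mp (hB.disjoint_perp_perp d1) x d4
      (d5 ▸ mem_perp_one.mpr hxx))
  have h3 := su4_inv hB hU he he0 h4 hd hq2 h hxx (by simpa using h2 1) hf hfe hxf hwT
  simp only [hwf, hB.refl hxw, zero_smul, sub_zero, zero_div] at h3
  have h5 := Nat.card_le_card_of_injective (fun p : F × F × F =>
    (⟨_, AddSubgroup.add_mem _ (AddSubgroup.add_mem _ (smul_mem_uT hB hU he he0 ω p.1) (h3 p.2.1))
      (h2 p.2.2)⟩ : (uP hB hU he he0).T ω)) (by
      rintro ⟨a, b, c⟩ ⟨a', b', c'⟩ h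
      have h5 : a • e + b • w + c • x = a' • e + b' • w + c' • x := congrArg Subtype.val h
      have k1 := congrArg (B · f) h5
      have k2 := congrArg (B · w) h5
      have k3 := congrArg (B · x) h5
      simp [hef, hwf, hxf, hB.refl hwe, hw, hxw, hB.refl hxw, hB.refl hxe, hxx] at k1 k2 k3
      simp [k1, k2, k3])
  have h6 := (uP hB hU he he0).card_T_Lv ω
  have h7 := two_le_card_uLv hB hU he he0 h
  have h8 : Nat.card (MulAction.orbit (uD hB he).Q ω) ≤ Nat.card X := Finite.card_subtype_le _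
  change _ ≤ q ^ 2 * _ at h6
  simp only [Nat.card_prod, Nat.card_eq_fintype_card (α := F), hU.card] at h5
  subst hq2
  nlinarith

include hB hU h4 he he0 in
theorem perp_line {y : E} (hy : y ∈ cls B e 0) {v : E} (h1 : B v e = 0) (h2 : B v y = 0) :
    v ∈ (F ∙ e) ⊔ F ∙ y := by
  have d1 := hB.finrank_perp ((F ∙ e) ⊔ F ∙ y)
  have d2 : finrank F ↥((F ∙ e) ⊔ F ∙ y) = 2 := by
    rw [Submodule.finrank_sup_span_singleton hy.2.1, finrank_span_singleton he0]
  have : (F ∙ e) ⊔ F ∙ y = perp B ((F ∙ e) ⊔ F ∙ y) := Submodule.eq_of_le_of_finrank_eq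
    (fun v hv => by
      obtain ⟨s, t, rfl⟩ := mem_span_pair'.mp hv
      exact mem_perp_two.mpr ⟨by simp [he, hy.1], by simp [hB.refl hy.1, hy.2.2]⟩) (by omega)
  exact this ▸ mem_perp_two.mpr ⟨h1, h2⟩

include hU he0 in
theorem card_line {y : E} (hy : y ∉ F ∙ e) : Nat.card ↥((F ∙ e) ⊔ F ∙ y) = q ^ 4 := by
  rw [card_sub_u hU, Submodule.finrank_sup_span_singleton hy, finrank_span_singleton he0]

include hB hU h4 he he0 in
theorem iso_sub_card {S : AddSubgroup E} (h1 : ∀ s ∈ S, B s e = 0) (h2 : ∀ s ∈ S, B s s = 0)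
    (h3 : ∀ a : F, a • e ∈ S) {y : E} (hyS : y ∈ S) (hy : y ∉ F ∙ e) :
    Nat.card S ≤ q ^ 3 * Nat.card {t : F // t • y ∈ S} ∧
      ∀ v ∈ S, ∀ t : F, t • y ∈ S → σ (σ t * B v y) = -(σ t * B v y) := by
  have := finite_of_finiteDimensional F E
  have tr : ∀ v ∈ S, ∀ x ∈ S, σ (B v x) = -B v x := fun v hv x hx => by
    have := h2 _ (S.add_mem hv hx)
    simp only [map_add, LinearMap.add_apply, h2 v hv, h2 x hx, hB.herm v x] at this
    linear_combination this
  refine ⟨?_, fun v hv t ht => by simpa using tr v hv _ ht⟩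
  have h5 := card_le_mul_of_fiber (fun v : S => (⟨B v.1 y, tr v v.2 y hyS⟩ : {c : F // σ c = -c}))
    (k := q ^ 2 * Nat.card {t : F // t • y ∈ S}) fun c => by
      by_cases h0 : Nonempty {v : S // (⟨B v.1 y, tr v v.2 y hyS⟩ : {c : F // σ c = -c}) = c}
      swap
      · rw [not_nonempty_iff] at h0
        simp
      obtain ⟨v0, hv0⟩ := h0
      have key : ∀ v : {v : S // (⟨B v.1 y, tr v v.2 y hyS⟩ : {c : F // σ c = -c}) = c},
          ∃ s t : F, v.1.1 - v0.1 = s • e + t • y := fun v =>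
        mem_span_pair'.mp (perp_line hB hU he he0 h4 ⟨h1 y hyS, hy, h2 y hyS⟩
          (h1 _ (S.sub_mem v.1.2 v0.2)) (by
            have := congrArg Subtype.val (v.2.trans hv0.symm)
            simpa [sub_eq_zero] using this))
      choose s t hst using key
      rw [← hU.card, ← Nat.card_eq_fintype_card, ← Nat.card_prod]
      refine Nat.card_le_card_of_injective (fun v => (s v, ⟨t v, ?_⟩)) fun v v' h => ?_
      · simpa [hst] using S.sub_mem (S.sub_mem v.1.2 v0.2) (h3 (s v))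
      · simp only [Prod.mk.injEq, Subtype.mk.injEq] at h
        refine Subtype.ext (Subtype.ext (sub_left_injective (b := v0.1) ?_))
        simp only [hst, h.1, h.2]
  rw [card_trace_zero hU] at h5
  exact h5.trans (le_of_eq (by ring))

include hU in
theorem card_smul_le {y : E} {S : AddSubgroup E} {b : F} (hb : b ≠ 0) (hb' : σ b = -b)
    (h : ∀ t : F, t • y ∈ S → σ (σ t * b) = -(σ t * b)) :
    (∀ t : F, t • y ∈ S → σ t = t) ∧ Nat.card {t : F // t • y ∈ S} ≤ q := by
  have h1 : ∀ t : F, t • y ∈ S → σ t = t := fun t ht => by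
    have := h t ht
    rw [map_mul, hU.invol, hb'] at this
    exact mul_right_cancel₀ hb (by linear_combination this)
  exact ⟨h1, hU.card_fixed ▸ Nat.card_le_card_of_injective (fun t => ⟨t.1, h1 t t.2⟩)
    fun _ _ h => Subtype.ext (by simpa using h)⟩

include hB hU h4 he he0 in
theorem iso_sub_card' {S : AddSubgroup E} (h1 : ∀ s ∈ S, B s e = 0) (h2 : ∀ s ∈ S, B s s = 0)
    (h3 : ∀ a : F, a • e ∈ S) : Nat.card S ≤ q ^ 4 := by
  have := finite_of_finiteDimensional F E
  by_cases h0 : ∀ y ∈ S, y ∈ F ∙ e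
  · have := card_sub_u hU (F ∙ e)
    rw [finrank_span_singleton he0] at this
    exact le_trans (Nat.card_le_card_of_injective _ (Set.inclusion_injective
      (s := S) (t := F ∙ e) fun a ha => h0 a ha))
      (this.le.trans (Nat.pow_le_pow_right hU.pos (by omega)))
  push Not at h0
  obtain ⟨y, hyS, hy⟩ := h0
  obtain ⟨h5, h6⟩ := iso_sub_card hB hU he he0 h4 h1 h2 h3 hyS hy
  by_cases h7 : ∀ v ∈ S, B v y = 0
  · rw [← card_line hU he0 hy]
    exact Nat.card_le_card_of_injective _ (Set.inclusion_injective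
      (s := S) (t := ((F ∙ e) ⊔ F ∙ y : Submodule F E)) fun a ha =>
        perp_line hB hU he he0 h4 ⟨h1 y hyS, hy, h2 y hyS⟩ (h1 a ha) (h7 a ha))
  push Not at h7
  obtain ⟨v, hv, hvy⟩ := h7
  exact h5.trans (Nat.mul_le_mul_left _ (card_smul_le hU hvy
    (by simpa using h6 v hv 1 (by simpa using hyS)) (h6 v hv)).2)

include hU he0 h4 hd in
theorem su4_A {ω : X} (h : ¬XX hB ω e) : (∀ a ∈ (uD hB he).A ω, B a a = 0) ∧
    Nat.card ((uD hB he).A ω) = q ^ 4 ∧ Nat.card ((uP hB hU he he0).T ω) = q ^ 4 := by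
  have := finite_of_finiteDimensional F E
  obtain ⟨γ, h1, h2⟩ := exists_uLv hB hU he he0 h
  obtain ⟨η, h3, h5⟩ := uLv_smul hB hU he he0 h1 h2
  have h6 : ∀ a ∈ (uD hB he).A ω, B a a = 0 := fun a ha => by
    simpa [h3] using su4_T_iso hB hU he he0 h4 hd h (h5 a ha)
  have h7 := iso_sub_card' hB hU he he0 h4 (fun _ => uA_perp hB he) h6 (smul_mem_uA hB he ω)
  have h8 := iso_sub_card' hB hU he he0 h4 (fun _ => uT_perp hB hU he he0)
    (fun _ => su4_T_iso hB hU he he0 h4 hd h) (smul_mem_uT hB hU he he0 ω)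
  have h9 := (uP hB hU he he0).card_T ω
  rw [card_E_u hU (E := E), h4, show q ^ (2 * 4) = q ^ 4 * q ^ 4 by ring] at h9
  have := pow_pos hU.pos 4
  exact ⟨h6, by nlinarith, by nlinarith⟩

end Cfsg.Agent.H1
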