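import Cfsg.Agent.H1.MIU7

/-!
# Minimal index of `SU₄(q)`: the orbits of the Heisenberg group
-/

set_option autoImplicit false
set_option linter.unusedSectionVars false

namespace Cfsg.Agent.H1

open Module H5 Finset

theorem exists_sq_char_two {F : Type*} [Field F] [Fintype F] (h2 : (2 : F) = 0) (x : F) :
    ∃ a, a ^ 2 = x := by
  have := CharTwo.of_one_ne_zero_of_two_eq_zero one_ne_zero h2
  obtain ⟨a, ha⟩ := FiniteField.isSquare_of_char_two (ringChar.eq F 2) x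
  exact ⟨a, by rw [ha, sq]⟩

variable {F : Type*} [Field F] {σ : F →+* F} {E : Type*} [AddCommGroup E] [Module F E]
  [FiniteDimensional F E] {B : Sesq σ E} (hB : IsEps B 1) [Fintype F] {q : ℕ} (hU : UF σ q)
  {X : Type*} [MulAction (SUb B) X] [Finite X] {e : E} (he : B e e = 0) (he0 : e ≠ 0)
  (h4 : finrank F E = 4) (hd : Nat.card X < (q + 1) * (q ^ 3 + 1))

/-- the vector part is a subspace -/
def LT (ω : X) : Prop := ∀ x ∈ (uD hB he).A ω, ∀ t : F, t • x ∈ (uD hB he).A ω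

theorem uA_map {ω : X} (g : SUb B) (he' : B (suAct B g e) (suAct B g e) = 0) {x : E} :
    suAct B g x ∈ (uD hB he').A (g • ω) ↔ x ∈ (uD hB he).A ω := by
  refine ⟨fun ⟨μ, h1, h2⟩ => ?_, fun ⟨μ, h1, h2⟩ => ⟨μ, Adm.map h1 g, ?_⟩⟩
  · have h3 : Adm B x e μ := by simpa [act_inv_apply] using Adm.map h1 g⁻¹
    refine ⟨μ, h3, ?_⟩
    change ei hB _ _ _ • g • ω = _ at h2
    rwa [← mul_smul, ← ei_conj hB g h3, mul_smul, smul_left_cancel_iff] at h2
  · change ei hB _ _ _ • g • ω = _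
    rw [← mul_smul, ← ei_conj hB g h1, mul_smul]
    exact congrArg _ h2

theorem LT_map {ω : X} (g : SUb B) (he' : B (suAct B g e) (suAct B g e) = 0) :
    LT hB he' (g • ω) ↔ LT hB he ω :=
  ⟨fun h x hx t => by rw [← uA_map hB he g he', map_smul]; exact h _ ((uA_map hB he g he').mpr hx) t,
   fun h x hx t => by
    rw [← act_apply_inv (suAct B) g x] at hx ⊢
    rw [← map_smul, uA_map hB he g he']
    exact h _ ((uA_map hB he g he').mp hx) t⟩

theorem LT_conj {ω : X} {g : SUb B} {a : F} (hg : suAct B g e = a • e) (ha : a ≠ 0)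
    (h : LT hB he ω) : LT hB he (g • ω) := fun x hx t => by
  have h1 := uA_conj hB he (inv_e hg ha) (inv_ne_zero ha) hx
  rw [inv_smul_smul] at h1
  simpa [act_apply_inv, smul_smul, ha, mul_comm t, ← mul_assoc] using uA_conj hB he hg ha (h _ h1 t)

include hU he0 h4 hd in
theorem LT_of {ω : X} (h : ¬XX hB ω e) {y : E} (hy : y ∉ F ∙ e)
    (h1 : (∀ t : F, t • y ∈ (uD hB he).A ω) ∨ ∀ a ∈ (uD hB he).A ω, a ∈ (F ∙ e) ⊔ F ∙ y) :
    LT hB he ω := by
  have := finite_of_finiteDimensional F E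
  have h2 := (su4_A hB hU he he0 h4 hd h).2.1
  have h3 := card_line hU he0 hy
  have : (uD hB he).A ω = ((F ∙ e) ⊔ F ∙ y).toAddSubgroup := by
    rcases h1 with h1 | h1
    · refine (AddSubgroup.eq_of_le_of_card_ge (fun a ha => ?_) (h2.trans h3.symm).le).symm
      obtain ⟨s, t, rfl⟩ := mem_span_pair'.mp ha
      exact AddSubgroup.add_mem _ (smul_mem_uA hB he ω s) (h1 t)
    · exact AddSubgroup.eq_of_le_of_card_ge h1 (h3.trans h2.symm).le
  intro x hx t
  rw [this] at hx ⊢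
  exact ((F ∙ e) ⊔ F ∙ y).smul_mem t hx

include hU he0 h4 hd in
theorem exists_mem_uA {ω : X} (h : ¬XX hB ω e) : ∃ y ∈ (uD hB he).A ω, y ∉ F ∙ e := by
  have := finite_of_finiteDimensional F E
  by_contra hc
  push Not at hc
  have h1 := card_sub_u hU (F ∙ e)
  rw [finrank_span_singleton he0] at h1
  have h2 := Nat.card_le_card_of_injective _ (Set.inclusion_injective
    (s := (uD hB he).A ω) (t := F ∙ e) fun a ha => hc a ha)
  erw [(su4_A hB hU he he0 h4 hd h).2.1, h1] at h2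
  exact absurd h2 (not_le.mpr (Nat.pow_lt_pow_right hU.two_le (by omega)))

include hU he0 h4 hd in
theorem U_mem {ω : X} (h : ¬XX hB ω e) (hL : ¬LT hB he ω) {y : E} (hy : y ∈ (uD hB he).A ω)
    (hy' : y ∉ F ∙ e) : (∃ v ∈ (uD hB he).A ω, B v y ≠ 0 ∧ σ (B v y) = -B v y) ∧
      ∀ t : F, t • y ∈ (uD hB he).A ω ↔ σ t = t := by
  have := finite_of_finiteDimensional F E
  obtain ⟨h1, h2, -⟩ := su4_A hB hU he he0 h4 hd h
  obtain ⟨h5, h6⟩ := iso_sub_card hB hU he he0 h4 (fun _ => uA_perp hB he) h1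
    (smul_mem_uA hB he ω) hy hy'
  obtain ⟨v, hv, hvy⟩ : ∃ v ∈ (uD hB he).A ω, B v y ≠ 0 := by
    by_contra hc
    push Not at hc
    exact hL (LT_of hB hU he he0 h4 hd h hy' (Or.inr fun a ha =>
      perp_line hB hU he he0 h4 ⟨uA_perp hB he hy, hy', h1 y hy⟩ (uA_perp hB he ha) (hc a ha)))
  have h7 : σ (B v y) = -B v y := by simpa using h6 v hv 1 (by simpa using hy)
  obtain ⟨h8, h9⟩ := card_smul_le hU hvy h7 (h6 v hv)
  refine ⟨⟨v, hv, hvy, h7⟩, fun t => ⟨h8 t, fun ht => ?_⟩⟩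
  have : {t : F | t • y ∈ (uD hB he).A ω} = {t | σ t = t} :=
    Set.eq_of_subset_of_ncard_le h8 (by
      rw [← Nat.card_coe_set_eq, ← Nat.card_coe_set_eq]
      refine hU.card_fixed.le.trans (Nat.le_of_mul_le_mul_left ?_ (pow_pos hU.pos 3))
      rw [h2] at h5
      exact h5)
  exact (this ▸ ht : t ∈ {t : F | t • y ∈ (uD hB he).A ω})

include hU he0 h4 hd in
theorem U_type {ω : X} (h : ¬XX hB ω e) (hL : ¬LT hB he ω) : (2 : F) = 0 ∧
    ∀ y ∈ cls B e 0, ∃ s : F, s ≠ 0 ∧ s • y ∈ (uD hB he).A ω := by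
  obtain ⟨x, hx, hx'⟩ := exists_mem_uA hB hU he he0 h4 hd h
  obtain ⟨⟨v, hv, h1, h2⟩, h3⟩ := U_mem hB hU he he0 h4 hd h hL hx hx'
  have hA := (su4_A hB hU he he0 h4 hd h).1
  have hxv : B x v = -B v x := by rw [hB.herm, h2]
  constructor
  · by_contra h5
    refine h ((XX_iff hB he).mpr (le_antisymm ((uD hB he).J_le ω) fun μ hμ => ?_))
    have h6 : σ (μ / (2 * B v x)) = μ / (2 * B v x) := by
      rw [map_div₀, map_mul, (mem_uZ hB he).mp hμ, h2, map_ofNat, mul_neg, neg_div_neg_eq]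
    have := (uD hB he).comm_mem_J ((h3 _).mpr h6) hv
    convert this using 1
    change μ = B v _ - B _ v
    simp only [LinearMap.map_smulₛₗ, h6, LinearMap.smul_apply, hxv, smul_eq_mul, RingHom.id_apply]
    field_simp
    ring
  · intro y hy
    obtain ⟨s, t, hst⟩ := mem_span_pair'.mp (perp_line hB hU he he0 h4
      ⟨uA_perp hB he hx, hx', hA x hx⟩ (v := y - (B y x / B v x) • v)
      (by simp [hy.1, uA_perp hB he hv]) (by simp [h1]))
    obtain ⟨b, hb⟩ : ∃ b, b = B y x / B v x := ⟨_, rfl⟩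
    rw [← hb, sub_eq_iff_eq_add] at hst
    by_cases h0 : b = 0
    · have ht : t ≠ 0 := by
        rintro rfl
        exact hy.2.1 (Submodule.mem_span_singleton.mpr ⟨s, by simp [hst, h0]⟩)
      refine ⟨t⁻¹, inv_ne_zero ht, ?_⟩
      convert AddSubgroup.add_mem _ (smul_mem_uA hB he ω (s / t)) hx using 1
      rw [hst, h0]
      match_scalars <;> field_simp <;> ring
    · refine ⟨b⁻¹, inv_ne_zero h0, ?_⟩
      have h5 := hy.2.2
      simp only [hst, map_add, map_smul, LinearMap.add_apply, LinearMap.smul_apply,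
        LinearMap.map_smulₛₗ, he, uA_perp hB he hx, uA_perp hB he hv, hB.refl (uA_perp hB he hx),
        hB.refl (uA_perp hB he hv), hA x hx, hA v hv, hxv, smul_eq_mul, RingHom.id_apply] at h5
      have hσ : σ b ≠ 0 := by simpa using h0
      have h6 : σ (t / b) = t / b := by
        rw [map_div₀]
        field_simp
        exact mul_right_cancel₀ h1 (by linear_combination h5)
      convert AddSubgroup.add_mem _ (AddSubgroup.add_mem _ (smul_mem_uA hB he ω (s / b))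
        ((h3 _).mpr h6)) hv using 1
      rw [hst]
      match_scalars <;> field_simp

include hU he0 h4 hd in
theorem U_card {ω : X} (h : ¬XX hB ω e) (hL : ¬LT hB he ω) {y : E} (hy : y ∈ cls B e 0) :
    Nat.card {t : F // t • y ∈ (uD hB he).A ω} = q := by
  obtain ⟨s, hs, h1⟩ := (U_type hB hU he he0 h4 hd h hL).2 y hy
  have h2 := (U_mem hB hU he he0 h4 hd h hL h1 (by
    rw [Submodule.smul_mem_iff _ hs]; exact hy.2.1)).2
  rw [← hU.card_fixed]
  refine (Nat.card_congr (Equiv.subtypeEquiv (Equiv.mulRight₀ s hs) fun t => ?_)).symm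
  rw [← h2, smul_smul, Equiv.mulRight₀_apply]

include hU he0 h4 hd in
theorem cover4 {ω : X} (h : ¬XX hB ω e) {y : E} (hy : y ∈ cls B e 0) : ∃ (g : SUb B) (a : F),
    a * σ a = 1 ∧ suAct B g e = a • e ∧ y ∈ (uD hB he).A (g • ω) := by
  have hA := (su4_A hB hU he he0 h4 hd h).1
  by_cases hL : LT hB he ω
  · obtain ⟨x, hx, hx'⟩ := exists_mem_uA hB hU he he0 h4 hd h
    have hxe := uA_perp hB he hx
    by_cases h1 : B y x = 0
    · obtain ⟨s, t, rfl⟩ := mem_span_pair'.mp (perp_line hB hU he he0 h4 ⟨hxe, hx', hA x hx⟩ hy.1 h1)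
      exact ⟨1, 1, by simp, by simp, by
        rw [one_smul]; exact AddSubgroup.add_mem _ (smul_mem_uA hB he ω s) (hL x hx t)⟩
    obtain ⟨c, hc0, hc⟩ := hU.exists_trace_zero
    have h2 : B ((c / B x y) • x) (y - (c / B x y) • x) = c := by
      simp [hA x hx, mt hB.refl h1]
    obtain ⟨k1, k2, k3⟩ := ut_move hB (x := (c / B x y) • x) (x' := y) (by simp [hA x hx, hy.2.2])
      (by rw [h2, hc]) (by rwa [h2])
    have k4 : suAct B (ut hB (y - (c / B x y) • x) (B ((c / B x y) • x) (y - (c / B x y) • x))⁻¹) e =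
        (1 : F) • e := by
      rw [ut_apply hB k1 k2]; simp [hB.refl hxe, hB.refl hy.1]
    refine ⟨_, 1, by simp, k4, ?_⟩
    have := uA_conj hB he k4 one_ne_zero (hL x hx (c / B x y))
    rwa [k3, map_one, one_smul] at this
  obtain ⟨h2, h3⟩ := U_type hB hU he he0 h4 hd h hL
  obtain ⟨s, hs, h5⟩ := h3 y hy
  have h6 := (U_mem hB hU he he0 h4 hd h hL h5 (by
    rw [Submodule.smul_mem_iff _ hs]; exact hy.2.1)).2
  have hσ : σ s ≠ 0 := by simpa using hs
  obtain ⟨b, hb⟩ := exists_sq_char_two h2 (s / σ s)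
  obtain ⟨a, rfl⟩ := exists_sq_char_two h2 b
  have h7 : a * σ a = 1 := by
    have h7 : (a * σ a) ^ 4 = 1 := by
      rw [mul_pow, ← map_pow, show a ^ 4 = (a ^ 2) ^ 2 by ring, hb, map_div₀, hB.invol]
      field_simp
    have : (a * σ a - 1) ^ 4 = 0 := by
      linear_combination h7 + (-2 * (a * σ a) ^ 3 + 3 * (a * σ a) ^ 2 - 2 * (a * σ a) + 1) * h2
    simpa [sub_eq_zero] using this
  have ha : a ≠ 0 := by rintro rfl; simp at h7
  have h8 : σ a = a⁻¹ := eq_inv_of_mul_eq_one_right h7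
  have hy0 : y ≠ 0 := by rintro rfl; exact hy.2.1 (Submodule.zero_mem _)
  obtain ⟨f, hf, hfe, hf'⟩ := exists_partner hB hU he0 he (S := F ∙ y)
    (by simpa using not_mem_span_add he0 hy.2.1 0 one_ne_zero) fun s hs => by
      obtain ⟨s, rfl⟩ := Submodule.mem_span_singleton.mp hs
      simp [hB.refl hy.1]
  have hyf := hB.refl (hf' y (Submodule.mem_span_singleton_self y))
  obtain ⟨z, hz, hzy, hz'⟩ := exists_partner hB hU hy0 hy.2.2 (S := (F ∙ e) ⊔ F ∙ f) (fun hh => by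
      obtain ⟨s, t, hst⟩ := mem_span_pair'.mp hh
      obtain rfl : t = 0 := by simpa [hst, he, hfe] using hy.1
      exact hy.2.1 (Submodule.mem_span_singleton.mpr ⟨s, by simp [hst]⟩)) fun s hs => by
    obtain ⟨s, t, rfl⟩ := mem_span_pair'.mp hs
    simp [hy.1, hyf]
  have hze := hz' e (mem_span_pair'.mpr ⟨1, 0, by simp⟩)
  have hzf := hz' f (mem_span_pair'.mpr ⟨0, 1, by simp⟩)
  obtain ⟨g, hg⟩ := exists_hy2 hB he hf hfe hy.2.2 hz hzy hy.1 hyf hze hzf ha (inv_ne_zero ha)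
    (by simp only [h8, map_inv₀]; field_simp)
  have k1 : suAct B g e = a • e := by
    simp [hg, hB.herm f e, hfe, he, hB.refl hze, hB.refl hy.1, sub_smul]
  have k2 : suAct B g y = a⁻¹ • y := by
    simp [hg, hB.herm z y, hzy, hyf, hy.1, hy.2.2, sub_smul]
  refine ⟨g, a, h7, k1, ?_⟩
  have := uA_conj hB he k1 ha ((h6 (a ^ 2 / s)).mpr (by
    rw [map_div₀, map_pow, h8]
    field_simp at hb ⊢
    linear_combination -hb))
  convert this using 1
  rw [map_smul, map_smul, k2, h8]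
  match_scalars
  field_simp

include hU he0 h4 hd in
theorem su4_family {ω : X} (h : ¬XX hB ω e) : ∃ t : Finset X, q + 1 ≤ t.card ∧
    (∀ ω1 ∈ t, ∀ ω2 ∈ t, (uD hB he).Eqv ω1 ω2 → ω1 = ω2) ∧
    ∀ ω1 ∈ t, ∃ (g : SUb B) (a : F), a * σ a = 1 ∧ suAct B g e = a • e ∧ g • ω = ω1 := by
  classical
  have := finite_of_finiteDimensional F E
  have := Fintype.ofFinite E
  choose! g a h1 h2 h3 using fun y (hy : y ∈ cls B e 0) => cover4 hB hU he he0 h4 hd h hy
  have ha : ∀ y ∈ cls B e 0, a y ≠ 0 := fun y hy h0 => by simpa [h0] using h1 y hy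
  obtain ⟨t, k1, k2, k3⟩ := exists_cover (univ.filter (· ∈ cls B e 0)) (fun y => g y • ω)
    (uD hB he).A (q ^ 4 - q ^ 2) fun y hy => by
      have hy' : y ∈ cls B e 0 := by simpa using hy
      have k1 := (su4_A hB hU he he0 h4 hd ((XX_conj_e hB he (h2 y hy') (ha y hy')).not.mpr h)).2.1
      have k2 := card_sub_u hU (F ∙ e)
      rw [finrank_span_singleton he0] at k2
      rw [Nat.card_eq_fintype_card, Fintype.card_subtype] at k1 k2
      rw [← k1, ← k2, ← Finset.card_sdiff_of_subset fun x hx => by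
        obtain ⟨s, rfl⟩ := Submodule.mem_span_singleton.mp (by simpa using hx)
        simpa using smul_mem_uA hB he _ s]
      refine Finset.card_le_card fun x hx => ?_
      simp only [mem_filter, mem_univ, true_and, mem_sdiff] at hx ⊢
      exact ⟨hx.2 ▸ h3 x hx.1, hx.1.2.1⟩
  refine ⟨t, ?_, fun ω1 h1 ω2 h2 h => k2 ω1 h1 ω2 h2 h.A_eq.symm, fun ω1 h => ?_⟩
  · have k4 := card_cls hB hU (k := 1) h4 he he0 (map_zero σ)
    rw [if_pos rfl, Nat.card_eq_fintype_card, Fintype.card_subtype, uq, if_pos (by decide), uq,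
      if_neg (by decide), pow_one, ← mul_assoc, Nat.mul_sub_one, ← pow_add] at k4
    exact Nat.le_of_mul_le_mul_left (k4.trans k3)
      (Nat.sub_pos_of_lt (Nat.pow_lt_pow_right hU.two_le (by omega)))
  · obtain ⟨y, hy, rfl⟩ := k1 ω1 h
    have hy' : y ∈ cls B e 0 := by simpa using hy
    exact ⟨g y, a y, h1 y hy', h2 y hy', rfl⟩

include hU he0 h4 hd in
theorem su4_level {ω : X} (h : ¬XX hB ω e) (γ : Kf σ) : ∃ t : Finset X, q + 1 ≤ t.card ∧
    (∀ ω1 ∈ t, ∀ ω2 ∈ t, (uD hB he).Eqv ω1 ω2 → ω1 = ω2) ∧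
    ∀ ω1 ∈ t, ¬XX hB ω1 e ∧ γ ∈ (uP hB hU he he0).Lv ω1 := by
  obtain ⟨g, a, ha, hg, hγ⟩ := exists_level hB hU (by omega) he he0 h γ
  have h1 := (XX_conj_e hB he hg ha).not.mpr h
  obtain ⟨t, k1, k2, k3⟩ := su4_family hB hU he he0 h4 hd h1
  refine ⟨t, k1, k2, fun ω1 h => ?_⟩
  obtain ⟨r, b, k4, k5, rfl⟩ := k3 ω1 h
  have hb : b ≠ 0 := by rintro rfl; simp at k4
  exact ⟨(XX_conj_e hB he k5 hb).not.mpr h1, uLv_conj hB hU he he0 k5 hb (by simp [k4]) hγ⟩

include hU he0 h4 hd in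
theorem su4_count {ω : X} (h : ¬XX hB ω e) (s : Finset X)
    (h1 : ∀ ω1 ∈ s, ∀ ω2 ∈ s, (uD hB he).Eqv ω1 ω2 → ω1 = ω2) (h2 : ∀ ω1 ∈ s, ¬XX hB ω1 e) :
    q ^ 2 * (s.card + (q - 1) * (q + 1)) ≤ Nat.card {ω' : X // ¬XX hB ω' e} := by
  classical
  have := finite_of_finiteDimensional F E
  have := Fintype.ofFinite (Kf σ)
  choose t k1 k2 k3 using su4_level hB hU he he0 h4 hd h
  have k4 := (uP hB hU he he0).budgetT (p := fun ω' : X => ¬XX hB ω' e)
    (fun _ _ h => (XX_eqv hB he h).not.mpr) (fun γ => if γ = 0 then s else t γ)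
    (fun γ => by split_ifs; exacts [h1, k2 γ]) fun γ => by
      split_ifs with h
      exacts [fun ω1 h' => ⟨h2 ω1 h', h ▸ AddSubgroup.zero_mem _⟩, k3 γ]
  have k5 : ∀ γ, ∑ ω1 ∈ (if γ = 0 then s else t γ), Nat.card ((uP hB hU he he0).T ω1) =
      (if γ = 0 then s else t γ).card * q ^ 4 := fun γ => by
    rw [Finset.sum_congr rfl fun ω1 h' => (su4_A hB hU he he0 h4 hd ?_).2.2]
    · simp
    · split_ifs at h'
      exacts [h2 ω1 h', (k3 γ ω1 h').1]
  rw [Finset.sum_congr rfl fun γ _ => k5 γ, ← Finset.sum_mul,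
    ← Finset.add_sum_erase _ _ (mem_univ 0), if_pos rfl] at k4
  have k6 : (q - 1) * (q + 1) ≤ ∑ γ ∈ univ.erase (0 : Kf σ), (if γ = 0 then s else t γ).card := by
    refine le_trans (le_of_eq ?_) (Finset.card_nsmul_le_sum _ _ (q + 1) fun γ hγ => by
      rw [if_neg (ne_of_mem_erase hγ)]; exact k1 γ)
    rw [card_erase_of_mem (mem_univ _), card_univ, ← Nat.card_eq_fintype_card, card_Kf hU,
      smul_eq_mul]
  refine Nat.le_of_mul_le_mul_left (le_trans ?_ k4) (pow_pos hU.pos 2)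
  change q ^ 2 * _ ≤ _
  rw [← mul_assoc, ← pow_add, mul_comm]
  exact Nat.mul_le_mul_right _ (by omega)

include hU he0 h4 hd in
theorem su4_max {ω : X} (h : ¬XX hB ω e) {t : Finset X} (h0 : q + 1 ≤ t.card)
    (h1 : ∀ ω1 ∈ t, ∀ ω2 ∈ t, (uD hB he).Eqv ω1 ω2 → ω1 = ω2) (h2 : ∀ ω1 ∈ t, ¬XX hB ω1 e) :
    ∃ ω1 ∈ t, (uD hB he).Eqv ω1 ω := by
  classical
  by_contra hc
  push Not at hc
  have h3 := su4_count hB hU he he0 h4 hd h (insert ω t) (by
    simp only [mem_insert]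
    rintro _ (rfl | k) _ (rfl | k') h''
    exacts [rfl, absurd h''.symm (hc _ k'), absurd h'' (hc _ k), h1 _ k _ k' h''])
    (by simpa [h] using h2)
  rw [card_insert_of_notMem fun h => hc ω h (HD.Eqv.refl _ _)] at h3
  have h5 := (Nat.mul_le_mul_left _ (Nat.add_le_add_right (Nat.add_le_add_right h0 1) _)).trans
    (h3.trans ((Finite.card_subtype_le _).trans hd.le))
  obtain ⟨r, rfl⟩ : ∃ r, q = r + 2 := ⟨q - 2, by have := hU.two_le; omega⟩
  rw [show r + 2 - 1 = r + 1 by omega] at h5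
  nlinarith

include hU he0 h4 hd in
theorem su4_J {ω : X} (h : ¬XX hB ω e) : (uD hB he).J ω = ⊥ := by
  have := finite_of_finiteDimensional F E
  have h1 : (uP hB hU he he0).Lv ω = ⊤ := eq_top_iff.mpr fun γ _ => by
    obtain ⟨t, k1, k2, k3⟩ := su4_level hB hU he he0 h4 hd h γ
    obtain ⟨ω1, k4, k5⟩ := su4_max hB hU he he0 h4 hd h k1 k2 fun ω1 h => (k3 ω1 h).1
    rw [(uP hB hU he he0).Lv_eq k5]
    exact (k3 ω1 k4).2
  have h2 := (uP hB hU he he0).card_Lv ω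
  rw [h1, AddSubgroup.card_top] at h2
  exact AddSubgroup.card_eq_one.mp (Nat.eq_of_mul_eq_mul_left Nat.card_pos (by rw [h2, mul_one]))

include hU he0 h4 hd in
theorem su4_LT {ω ω' : X} (h : ¬XX hB ω e) (h' : ¬XX hB ω' e) (hL : LT hB he ω) :
    LT hB he ω' := by
  obtain ⟨t, k1, k2, k3⟩ := su4_family hB hU he he0 h4 hd h
  have k4 : ∀ ω1 ∈ t, ¬XX hB ω1 e ∧ LT hB he ω1 := fun ω1 h1 => by
    obtain ⟨r, b, k4, k5, rfl⟩ := k3 ω1 h1
    have hb : b ≠ 0 := by rintro rfl; simp at k4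
    exact ⟨(XX_conj_e hB he k5 hb).not.mpr h, LT_conj hB he k5 hb hL⟩
  obtain ⟨ω1, k5, k6⟩ := su4_max hB hU he he0 h4 hd h' k1 k2 fun ω1 h => (k4 ω1 h).1
  rw [LT, k6.A_eq]
  exact (k4 ω1 k5).2

include hU he he0 h4 hd in
theorem su4_II {ω : X} (h : ¬XX hB ω e) :
    q ^ 3 * (q + 1) ≤ Nat.card {ω' : X // ¬XX hB ω' e} := by
  obtain ⟨t, k1, k2, k3⟩ := su4_level hB hU he he0 h4 hd h 0
  refine le_trans ?_ (su4_count hB hU he he0 h4 hd h t k2 fun ω1 h => (k3 ω1 h).1)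
  obtain ⟨r, rfl⟩ : ∃ r, q = r + 1 := ⟨q - 1, by have := hU.two_le; omega⟩
  rw [Nat.add_sub_cancel]
  nlinarith [Nat.mul_le_mul_left ((r + 1) ^ 2) k1]

end Cfsg.Agent.H1
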