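import Cfsg.Agent.H2.PSL2

/-!
# Products of conjugacy classes in `PSL₂(q)`
-/

set_option autoImplicit false
set_option linter.unusedSectionVars false

namespace Cfsg.Agent.H1

open H2 Matrix MatrixGroups

variable {F : Type*} [Field F] [Finite F]

theorem macbeath {α : F} (hα : α ^ 2 ≠ 4) (β γ : F) :
    ∃ A B : SL(2, F), tr A = α ∧ tr B = β ∧ tr (A * B) = γ := by
  have h : 4 - α ^ 2 ≠ 0 := sub_ne_zero.mpr hα.symm
  obtain ⟨x, hx⟩ : ∃ x, x = (2 * β - α * γ) / (4 - α ^ 2) := ⟨_, rfl⟩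
  obtain ⟨z, hz⟩ : ∃ z, z = (α * β - 2 * γ) / (4 - α ^ 2) := ⟨_, rfl⟩
  have h1 : 2 * x - α * z = β := by rw [hx, hz]; field_simp; ring
  have h2 : 2 * z - α * x = -γ := by rw [hx, hz]; field_simp; ring
  obtain ⟨a, b, hab⟩ := exists_form_eq (t := -α) (d := 1) (Or.inr (by simpa using hα))
    (-(x ^ 2 - α * x * z + z ^ 2 - β * x + γ * z + 1))
  refine ⟨toSL !![α, -1; 1, 0] (by simp [det_fin_two_of]),
    toSL !![a + x, γ + (b + z) - α * (a + x); b + z, β - (a + x)] (by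
      rw [det_fin_two_of]; linear_combination -hab - a * h1 - b * h2), ?_, ?_, ?_⟩ <;>
    simp [tr, trace_fin_two]
  ring

theorem SS.isConj {x y : SL(2, F)} (hx : SS x) (h : tr y = tr x) : ∃ u, y = u * x * u⁻¹ := by
  have hy : SS y := by rw [SS, h]; exact hx
  obtain ⟨u, hu⟩ := isConj_iff.mp (isConj_SL_of hx.not_sc hy.not_sc h.symm (Or.inr hx))
  exact ⟨u, hu.symm⟩

theorem prod_of_tr {x g A B : SL(2, F)} (hx : SS x) (hA : tr A = tr x) (hB : tr B = tr x)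
    (hg : ¬Sc g) (hAB : ¬Sc (A * B)) (h : tr (A * B) = tr g) :
    ∃ u v, g = u * x * u⁻¹ * (v * x * v⁻¹) := by
  obtain ⟨c, hc, h1⟩ := exists_intertwine hAB hg h (by simp)
  have hu : IsUnit c.det := hc.isUnit
  have key : ∀ A : SL(2, F), tr A = tr x → ∃ u : SL(2, F),
      ((u * x * u⁻¹ : SL(2, F)) : Matrix (Fin 2) (Fin 2) F) = c * A * c⁻¹ := fun A hA => by
    obtain ⟨u, hu⟩ := SS.isConj hx (y := toSL (c * A.1 * c⁻¹) (by simp [hc])) (by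
      rw [← hA]
      simp only [tr, coe_toSL]
      rw [trace_mul_cycle, nonsing_inv_mul _ hu, one_mul])
    exact ⟨u, by rw [← hu, coe_toSL]⟩
  obtain ⟨u, h2⟩ := key A hA
  obtain ⟨v, h3⟩ := key B hB
  refine ⟨u, v, SL_ext ?_⟩
  rw [Matrix.SpecialLinearGroup.coe_mul] at h1
  rw [Matrix.SpecialLinearGroup.coe_mul (u * x * u⁻¹), h2, h3]
  simp only [Matrix.mul_assoc, nonsing_inv_mul_cancel_left _ _ hu]
  rw [← Matrix.mul_assoc A.1, ← Matrix.mul_assoc c, h1, mul_nonsing_inv_cancel_right _ _ hu]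

theorem prod_of_SS {x g : SL(2, F)} (hx : SS x) (hg : SS g) :
    ∃ u v, g = u * x * u⁻¹ * (v * x * v⁻¹) := by
  obtain ⟨A, B, h1, h2, h3⟩ := macbeath hx (tr x) (tr g)
  exact prod_of_tr hx h1 h2 hg.not_sc (SS.not_sc (by rw [SS, h3]; exact hg)) h3

theorem pj_prod {x g : SL(2, F)} (h : ∃ u v, g = u * x * u⁻¹ * (v * x * v⁻¹)) :
    ∃ u v, pj F g = u * pj F x * u⁻¹ * (v * pj F x * v⁻¹) := by
  obtain ⟨u, v, rfl⟩ := h
  exact ⟨pj F u, pj F v, by simp⟩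

theorem tr_ne_zero_of_order {x : SL(2, F)} (h : 2 < orderOf (pj F x)) : tr x ≠ 0 := fun h0 => by
  have : pj F x ^ 2 = 1 := by rw [← map_pow, sq_eq_neg_one_of_tr h0, pj_neg, map_one]
  exact absurd (Nat.le_of_dvd two_pos (orderOf_dvd_of_pow_eq_one this)) (by omega)

theorem tr_sq_of_isConj {x y : SL(2, F)} (h : IsConj (pj F x) (pj F y)) : tr x ^ 2 = tr y ^ 2 := by
  obtain ⟨u, hu⟩ := isConj_iff.mp h
  obtain ⟨u, rfl⟩ := pj_surjective u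
  rw [← map_inv, ← map_mul, ← map_mul, pj_eq_iff] at hu
  rw [← tr_conj u x]
  rcases hu with h | h <;> rw [h]
  rw [tr_neg, neg_sq]

theorem unip_conj {b : SL(2, F)} (h1 : ¬Sc b) (h2 : ¬SS b) :
    ∃ k : F, k ≠ 0 ∧ ∃ v, pj F (uSL k) = pj F (v * b * v⁻¹) := by
  rcases sq_eq_sq_iff_eq_or_eq_neg.mp (show tr b ^ 2 = 2 ^ 2 by
    rw [not_not.mp h2]; norm_num) with h | h
  · obtain ⟨k, hk, h3⟩ := exists_isConj_uSL h1 h
    obtain ⟨v, hv⟩ := isConj_iff.mp h3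
    exact ⟨k, hk, v, by rw [hv]⟩
  · obtain ⟨k, hk, h3⟩ := exists_isConj_uSL (g := -b)
      (by rwa [← Sc, ← pj_eq_one_iff, pj_neg, pj_eq_one_iff]) (by
        change tr (-b) = 2
        rw [tr_neg, h, neg_neg])
    obtain ⟨v, hv⟩ := isConj_iff.mp h3
    exact ⟨k, hk, v, by rw [← hv, mul_neg, neg_mul, pj_neg]⟩

theorem exists_sq_ne (h4 : 4 ≤ Nat.card F) : ∃ l : F, l ≠ 0 ∧ l ^ 2 ≠ 1 := by
  obtain ⟨a, ha⟩ := exists_pow_ne_one (F := F) (n := 2) two_ne_zero (by omega)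
  exact ⟨a, a.ne_zero, ha⟩

/-- traces of products with a unipotent class are not constant up to sign -/
theorem two_traces (h4 : 4 ≤ Nat.card F) {a b : SL(2, F)} (ha : ¬Sc a) (hb : ¬Sc b) :
    ∃ u v u' v' : SL(2, F), tr (u * a * u⁻¹ * (v * b * v⁻¹)) ^ 2 ≠
      tr (u' * a * u'⁻¹ * (v' * b * v'⁻¹)) ^ 2 := by
  have sq : ∀ {x y z w : SL(2, F)}, pj F x = pj F y → pj F z = pj F w →
      tr (x * z) ^ 2 = tr (y * w) ^ 2 := fun h h' =>
    tr_sq_of_isConj (by rw [map_mul, map_mul, h, h'])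
  have key : ∀ a b : SL(2, F), SS a → ¬Sc b → ¬SS b → ∃ u v u' v' : SL(2, F),
      tr (u * a * u⁻¹ * (v * b * v⁻¹)) ^ 2 ≠ tr (u' * a * u'⁻¹ * (v' * b * v'⁻¹)) ^ 2 := by
    intro a b h1 h2 h3
    obtain ⟨k, hk, v, hv⟩ := unip_conj h2 h3
    have h5 : ∀ c, c ≠ tr a → ∃ u, tr (u * a * u⁻¹ * (v * b * v⁻¹)) ^ 2 = c ^ 2 := fun c hc => by
      have := sub_ne_zero.mpr hc
      obtain ⟨u, hu⟩ := SS.isConj h1 (y := toSL !![tr a, -k / (c - tr a); (c - tr a) / k, 0] (by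
        rw [det_fin_two_of]; field_simp; ring)) (by simp [tr, trace_fin_two])
      refine ⟨u, ?_⟩
      rw [← hu, ← sq rfl hv]
      simp [tr, trace_fin_two, hk]
    obtain ⟨l, hl0, hl⟩ := exists_sq_ne h4
    obtain ⟨c, c', k1, k2, k3⟩ : ∃ c c', c ≠ tr a ∧ c' ≠ tr a ∧ c ^ 2 ≠ c' ^ 2 := by
      by_cases m0 : tr a = 0
      · exact ⟨l, 1, m0 ▸ hl0, m0 ▸ one_ne_zero, by simpa using hl⟩
      by_cases m1 : tr a = 1
      · exact ⟨l, 0, by rintro rfl; simp [m1] at hl, Ne.symm m0, by simpa using hl0⟩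
      · exact ⟨1, 0, Ne.symm m1, Ne.symm m0, by simp⟩
    obtain ⟨u, hu⟩ := h5 c k1
    obtain ⟨u', hu'⟩ := h5 c' k2
    exact ⟨u, v, u', v, by rwa [hu, hu']⟩
  by_cases h1 : SS a <;> by_cases h2 : SS b
  · obtain ⟨A, B, k1, k2, k3⟩ := macbeath h1 (tr b) 0
    obtain ⟨A', B', k4, k5, k6⟩ := macbeath h1 (tr b) 1
    obtain ⟨u, rfl⟩ := SS.isConj h1 k1
    obtain ⟨v, rfl⟩ := SS.isConj h2 k2
    obtain ⟨u', rfl⟩ := SS.isConj h1 k4
    obtain ⟨v', rfl⟩ := SS.isConj h2 k5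
    exact ⟨u, v, u', v', by simp [k3, k6]⟩
  · exact key a b h1 hb h2
  · obtain ⟨u, v, u', v', h⟩ := key b a h2 ha h1
    refine ⟨v, u, v', u', ?_⟩
    have cm : ∀ x y : SL(2, F), tr (x * y) = tr (y * x) := fun x y => by
      rw [← tr_conj y]; simp [mul_assoc]
    rwa [cm, cm (v' * a * v'⁻¹)]
  obtain ⟨k, hk, v, hv⟩ := unip_conj hb h2
  obtain ⟨j, hj, u, hu⟩ := unip_conj ha h1
  have h5 : ∀ s : F, s ≠ 0 → ∃ w, tr (w * a * w⁻¹ * (v * b * v⁻¹)) ^ 2 = (2 - j * k * s ^ 2) ^ 2 :=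
    fun s hs => by
      let w : SL(2, F) := toSL !![0, -s⁻¹; s, 0] (by simp [det_fin_two_of, hs])
      refine ⟨w * u, ?_⟩
      rw [← sq (x := w * uSL j * w⁻¹) (by simp only [map_mul, map_inv, hu, _root_.mul_inv_rev, mul_assoc]) hv]
      simp [tr, trace_fin_two, w, hs, Matrix.SpecialLinearGroup.coe_inv, adjugate_fin_two]
      ring
  obtain ⟨l, hl0, hl⟩ := exists_sq_ne h4
  have h6 : tr (u * a * u⁻¹ * (v * b * v⁻¹)) ^ 2 = 2 ^ 2 := by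
    rw [← sq hu hv]; simp [tr, trace_fin_two]; norm_num
  obtain ⟨s, hs, k1⟩ : ∃ s : F, s ≠ 0 ∧ j * k * s ^ 2 ≠ 4 := by
    by_cases m : j * k = 4
    · exact ⟨l, hl0, fun h => hl (mul_left_cancel₀ (mul_ne_zero hj hk) (by rw [h, mul_one, m]))⟩
    · exact ⟨1, one_ne_zero, by simpa using m⟩
  obtain ⟨w, hw⟩ := h5 s hs
  refine ⟨w, v, u, v, fun h => ?_⟩
  rw [hw, h6] at h
  exact mul_ne_zero (mul_ne_zero (mul_ne_zero hj hk) (pow_ne_zero 2 hs)) (sub_ne_zero.mpr k1)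
    (by linear_combination h)

end Cfsg.Agent.H1
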