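import Cfsg.Agent.H1.CharInd
import Cfsg.Agent.H2.SL2Conj

/-!
# Multiplicative characters of finite fields and quadratic extensions inside two by two matrices
-/

set_option autoImplicit false
set_option linter.unusedSectionVars false

namespace Cfsg.Agent.H1

open Cfsg Module Cfsg.Agent.H2
open scoped ComplexConjugate

section MulCh

variable {K : Type*} [Field K] [Fintype K]

noncomputable instance instFintypeMulCharField : Fintype (MulChar K ℂ) := Fintype.ofFinite _

theorem card_mulChar : Fintype.card (MulChar K ℂ) = Fintype.card K - 1 := by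
  rw [← Nat.card_eq_fintype_card, MulChar.card_eq_card_units_of_hasEnoughRootsOfUnity,
    Nat.card_units, Nat.card_eq_fintype_card]

theorem cast_card_sub_one : ((Fintype.card K - 1 : ℕ) : ℂ) = (Fintype.card K : ℂ) - 1 := by
  rw [Nat.cast_sub Fintype.card_pos]; simp

theorem card_field_ne_zero : (Fintype.card K : ℂ) ≠ 0 := by
  exact_mod_cast Fintype.card_ne_zero

theorem card_sub_one_ne_zero : (Fintype.card K : ℂ) - 1 ≠ 0 := by
  rw [← cast_card_sub_one]
  have := Fintype.one_lt_card (α := K)
  exact_mod_cast (by omega : Fintype.card K - 1 ≠ 0)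

theorem card_add_one_ne_zero : (Fintype.card K : ℂ) + 1 ≠ 0 := by
  exact_mod_cast (by omega : Fintype.card K + 1 ≠ 0)

instance instIsCyclicMulCharField : IsCyclic (MulChar K ℂ) :=
  (MulChar.mulEquiv_units K ℂ).some.isCyclic.mpr inferInstance

open Classical in
theorem sum_mulChar_apply (a : K) :
    ∑ χ : MulChar K ℂ, χ a = if a = 1 then (Fintype.card K : ℂ) - 1 else 0 := by
  split_ifs with ha
  · simp [ha, card_mulChar, cast_card_sub_one]
  · obtain ⟨χ, hχ⟩ := MulChar.exists_apply_ne_one_of_hasEnoughRootsOfUnity K ℂ ha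
    refine eq_zero_of_mul_eq_self_left hχ ?_
    simp only [Finset.mul_sum, ← MulChar.mul_apply]
    exact Fintype.sum_bijective _ (Group.mulLeft_bijective χ) _ _ fun χ' ↦ rfl

open Classical in
theorem sum_mulChar (α : MulChar K ℂ) :
    ∑ a, α a = if α = 1 then (Fintype.card K : ℂ) - 1 else 0 := by
  split_ifs with h
  · subst h
    rw [MulChar.sum_one_eq_card_units, Fintype.card_units, cast_card_sub_one]
  · exact MulChar.sum_eq_zero_of_ne_one h

theorem conj_mulChar (α : MulChar K ℂ) (a : K) : conj (α a) = α⁻¹ a :=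
  MulChar.star_apply' α a

open Classical in
theorem sum_mulChar_mul_conj (α β : MulChar K ℂ) :
    ∑ a, α a * conj (β a) = if α = β then (Fintype.card K : ℂ) - 1 else 0 := by
  simp only [conj_mulChar, ← MulChar.mul_apply, sum_mulChar, mul_inv_eq_one]

theorem norm_mulChar (α : MulChar K ℂ) {a : K} (ha : a ≠ 0) : ‖α a‖ = 1 := by
  have h := FiniteField.pow_card_sub_one_eq_one a ha
  have h1 : α a ^ (Fintype.card K - 1) = 1 := by rw [← map_pow, h, map_one]
  have := Fintype.one_lt_card (α := K)
  exact Complex.norm_eq_one_of_pow_eq_one h1 (by omega)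

theorem mulChar_ne_zero (α : MulChar K ℂ) {a : K} (ha : a ≠ 0) : α a ≠ 0 := by
  intro h
  have := norm_mulChar α ha
  rw [h] at this
  simp at this

theorem mulChar_inv (α : MulChar K ℂ) (a : K) : α a⁻¹ = (α a)⁻¹ := by
  rw [← MulChar.inv_apply', MulChar.inv_apply_eq_inv']

theorem mulChar_one_apply {a : K} (ha : a ≠ 0) : (1 : MulChar K ℂ) a = 1 :=
  MulChar.one_apply (IsUnit.mk0 a ha)

/-- pulling a multiplicative character back along a multiplicative map of fields -/
noncomputable def mulCharComp {L : Type*} [Field L] (α : MulChar K ℂ) (f : L →*₀ K) :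
    MulChar L ℂ where
  toMonoidHom := α.toMonoidHom.comp f.toMonoidHom
  map_nonunit' := by
    intro a ha
    have : a = 0 := by simpa using ha
    subst this
    simp [MulChar.map_zero]

@[simp] theorem mulCharComp_apply {L : Type*} [Field L] (α : MulChar K ℂ) (f : L →*₀ K) (a : L) :
    mulCharComp α f a = α (f a) := rfl

theorem sq_eq_one_of_order_two {α β : MulChar K ℂ} (hα : α ^ 2 = 1) (hα1 : α ≠ 1)
    (hβ : β ^ 2 = 1) (hβ1 : β ≠ 1) : α = β := by
  classical
  have h := IsCyclic.card_pow_eq_one_le (α := MulChar K ℂ) (n := 2) (by norm_num)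
  by_contra hne
  have hsub : ({1, α, β} : Finset (MulChar K ℂ)) ⊆ Finset.univ.filter (fun a => a ^ 2 = 1) := by
    intro x hx
    simp only [Finset.mem_insert, Finset.mem_singleton] at hx
    rcases hx with rfl | rfl | rfl <;> simp [hα, hβ]
  have := Finset.card_le_card hsub
  rw [Finset.card_eq_three.mpr ⟨1, α, β, hα1.symm, hβ1.symm, hne, rfl⟩] at this
  omega

end MulCh

/-- a quadratic extension together with an embedding into two by two matrices -/
structure QuadEmb (F E : Type*) [Field F] [Field E] [Algebra F E] where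
  /-- the embedding -/
  ι : E →ₐ[F] Matrix (Fin 2) (Fin 2) F
  rank : Module.finrank F E = 2

theorem exists_quadEmb (F : Type*) [Field F] [Fintype F] :
    ∃ (E : Type) (_ : Field E) (_ : Fintype E) (_ : Algebra F E), Nonempty (QuadEmb F E) := by
  obtain ⟨p, hp⟩ := CharP.exists F
  have : Fact p.Prime := ⟨CharP.char_is_prime F p⟩
  have h := FiniteField.finrank_extension F p 2
  exact ⟨FiniteField.Extension F p 2, inferInstance, Fintype.ofFinite _, inferInstance,
    ⟨⟨Algebra.leftMulMatrix (Module.finBasisOfFinrankEq F _ h), h⟩⟩⟩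

namespace QuadEmb

variable {F E : Type*} [Field F] [Fintype F] [Field E] [Fintype E] [Algebra F E]
variable (Q : QuadEmb F E)

include Q in
theorem card_E : Fintype.card E = Fintype.card F ^ 2 := by
  rw [Module.card_eq_pow_finrank (K := F), Q.rank]

theorem inj : Function.Injective Q.ι := Q.ι.toRingHom.injective

theorem ι_algebraMap (a : F) : Q.ι (algebraMap F E a) = a • (1 : Matrix (Fin 2) (Fin 2) F) := by
  rw [AlgHom.commutes, Algebra.algebraMap_eq_smul_one]

theorem isScal_iff' (ξ : E) : IsScal (Q.ι ξ) ↔ ∃ a : F, ξ = algebraMap F E a := by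
  rw [isScal_iff]
  constructor
  · rintro ⟨a, ha⟩
    exact ⟨a, Q.inj (by rw [ha, Q.ι_algebraMap])⟩
  · rintro ⟨a, rfl⟩
    exact ⟨a, Q.ι_algebraMap a⟩

theorem algebraMap_pow_card (a : F) :
    (algebraMap F E a) ^ Fintype.card F = algebraMap F E a := by
  rw [← map_pow, FiniteField.pow_card]

theorem pow_card_eq_iff (ξ : E) : ξ ^ Fintype.card F = ξ ↔ ∃ a : F, ξ = algebraMap F E a := by
  classical
  constructor
  · intro h
    have hq := Fintype.one_lt_card (α := F)
    let P : Polynomial E := Polynomial.X ^ Fintype.card F - Polynomial.X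
    have hP : P ≠ 0 := FiniteField.X_pow_card_sub_X_ne_zero E hq
    have hdeg : P.natDegree = Fintype.card F := FiniteField.X_pow_card_sub_X_natDegree_eq E hq
    have hsub : Finset.univ.image (algebraMap F E) ⊆ P.roots.toFinset := by
      intro x hx
      obtain ⟨a, -, rfl⟩ := Finset.mem_image.mp hx
      simp [P, hP, algebraMap_pow_card]
    have hcard : P.roots.toFinset.card ≤ (Finset.univ.image (algebraMap F E)).card := by
      rw [Finset.card_image_of_injective _ (algebraMap F E).injective, Finset.card_univ, ← hdeg]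
      exact (Multiset.toFinset_card_le _).trans (Polynomial.card_roots' P)
    have heq := Finset.eq_of_subset_of_card_le hsub hcard
    have : ξ ∈ P.roots.toFinset := by simp [P, hP, h]
    rw [← heq] at this
    obtain ⟨a, -, rfl⟩ := Finset.mem_image.mp this
    exact ⟨a, rfl⟩
  · rintro ⟨a, rfl⟩
    exact algebraMap_pow_card a

include Q in
theorem pow_card_pow_card (ξ : E) : (ξ ^ Fintype.card F) ^ Fintype.card F = ξ := by
  rw [← pow_mul, ← sq, ← Q.card_E, FiniteField.pow_card]

theorem cayley' (ξ : E) :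
    ξ ^ 2 - algebraMap F E (Q.ι ξ).trace * ξ + algebraMap F E (Q.ι ξ).det = 0 := by
  apply Q.inj
  simp only [map_add, map_sub, map_mul, Q.ι_algebraMap, map_zero, sq, cayley (Q.ι ξ)]
  simp

theorem trace_det_eq (ξ : E) : algebraMap F E (Q.ι ξ).trace = ξ + ξ ^ Fintype.card F ∧
    algebraMap F E (Q.ι ξ).det = ξ ^ (Fintype.card F + 1) := by
  by_cases h : ∃ a : F, ξ = algebraMap F E a
  · obtain ⟨a, rfl⟩ := h
    rw [pow_succ, algebraMap_pow_card, Q.ι_algebraMap]
    simp [sq, mul_two]
  · have h1 := Q.cayley' ξ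
    have h2 := congrArg (FiniteField.frobeniusAlgHom F E) h1
    simp only [map_add, map_sub, map_mul, AlgHom.commutes, map_zero, map_pow,
      FiniteField.coe_frobeniusAlgHom] at h2
    have hne : ξ ^ Fintype.card F - ξ ≠ 0 := by
      rw [sub_ne_zero]
      exact fun e => h ((pow_card_eq_iff ξ).mp e)
    have h3 : algebraMap F E (Q.ι ξ).trace = ξ + ξ ^ Fintype.card F := by
      apply mul_left_cancel₀ hne
      linear_combination h1 - h2
    refine ⟨h3, ?_⟩
    rw [h3] at h1
    linear_combination h1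

theorem trace_eq (ξ : E) : algebraMap F E (Q.ι ξ).trace = ξ + ξ ^ Fintype.card F :=
  (Q.trace_det_eq ξ).1

theorem det_eq (ξ : E) : algebraMap F E (Q.ι ξ).det = ξ ^ (Fintype.card F + 1) :=
  (Q.trace_det_eq ξ).2

theorem trace_det_eq_iff (ξ η : E) :
    ((Q.ι η).trace = (Q.ι ξ).trace ∧ (Q.ι η).det = (Q.ι ξ).det) ↔
      (η = ξ ∨ η = ξ ^ Fintype.card F) := by
  constructor
  · rintro ⟨h1, h2⟩
    have := Q.cayley' η
    rw [h1, h2, Q.trace_eq, Q.det_eq] at this
    have h3 : (η - ξ) * (η - ξ ^ Fintype.card F) = 0 := by linear_combination this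
    simpa [sub_eq_zero] using h3
  · rintro (rfl | rfl)
    · exact ⟨rfl, rfl⟩
    · constructor <;> apply (algebraMap F E).injective
      · rw [Q.trace_eq, Q.trace_eq, Q.pow_card_pow_card, add_comm]
      · rw [Q.det_eq, Q.det_eq, pow_succ, pow_succ, Q.pow_card_pow_card, _root_.mul_comm]

theorem no_root {ξ : E} (h : ¬ IsScal (Q.ι ξ)) (x : F) :
    x ^ 2 - (Q.ι ξ).trace * x + (Q.ι ξ).det ≠ 0 := by
  intro hx
  apply h
  rw [Q.isScal_iff']
  have := congrArg (algebraMap F E) hx
  simp only [map_add, map_sub, map_mul, map_pow, map_zero, Q.trace_eq, Q.det_eq] at this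
  have h3 : (algebraMap F E x - ξ) * (algebraMap F E x - ξ ^ Fintype.card F) = 0 := by
    linear_combination this
  rcases mul_eq_zero.mp h3 with h4 | h4
  · exact ⟨x, (sub_eq_zero.mp h4).symm⟩
  · refine ⟨x, ?_⟩
    rw [← Q.pow_card_pow_card ξ, ← sub_eq_zero.mp h4, algebraMap_pow_card]

theorem trace_det_of_root {t d : F} {ξ : E} (hξ : ¬ IsScal (Q.ι ξ))
    (h : ξ ^ 2 - algebraMap F E t * ξ + algebraMap F E d = 0) :
    (Q.ι ξ).trace = t ∧ (Q.ι ξ).det = d := by
  have h1 := Q.cayley' ξ
  have h2 : algebraMap F E (d - (Q.ι ξ).det) + algebraMap F E ((Q.ι ξ).trace - t) * ξ = 0 := by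
    simp only [map_sub]
    linear_combination h - h1
  have h3 := congrArg Q.ι h2
  simp only [map_add, map_mul, Q.ι_algebraMap, map_zero, smul_mul_assoc, one_mul] at h3
  have h4 := comb_injective hξ (a' := 0) (b' := 0) (by simpa using h3)
  exact ⟨sub_eq_zero.mp h4.2, (sub_eq_zero.mp h4.1).symm⟩

theorem exists_of_no_root {t d : F} (h : ∀ x : F, x ^ 2 - t * x + d ≠ 0) :
    ∃ ξ : E, ¬ IsScal (Q.ι ξ) ∧ (Q.ι ξ).trace = t ∧ (Q.ι ξ).det = d := by
  open Polynomial in
  let P : F[X] := X ^ 2 - C t * X + C d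
  have hdeg : P.natDegree = 2 := by
    simp only [P]
    compute_degree!
  have hmon : P.Monic := by
    simp only [P]
    monicity!
  have hirr : Irreducible P := by
    rw [hmon.irreducible_iff_roots_eq_zero_of_degree_le_three (by omega) (by omega),
      Multiset.eq_zero_iff_forall_notMem]
    intro x hx
    rw [Polynomial.mem_roots hmon.ne_zero] at hx
    exact h x (by simpa [P] using hx)
  have : Fact (Irreducible P) := ⟨hirr⟩
  have hfr : finrank F (AdjoinRoot P) = 2 := by
    rw [(AdjoinRoot.powerBasis hmon.ne_zero).finrank, AdjoinRoot.powerBasis_dim, hdeg]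
  have : FiniteDimensional F (AdjoinRoot P) := Module.finite_of_finrank_eq_succ hfr
  have : Finite (AdjoinRoot P) := Module.finite_of_finite F
  obtain ⟨φ⟩ := FiniteField.nonempty_algHom_of_finrank_dvd (F := F) (K := AdjoinRoot P) (L := E)
    (by rw [hfr, Q.rank])
  have hroot : (φ (AdjoinRoot.root P)) ^ 2 - algebraMap F E t * φ (AdjoinRoot.root P) +
      algebraMap F E d = 0 := by
    have h1 : Polynomial.aeval (AdjoinRoot.root P) P = 0 := by simp
    have h2 := congrArg φ h1
    rw [← Polynomial.aeval_algHom_apply, map_zero] at h2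
    generalize φ (AdjoinRoot.root P) = r at h2
    simpa [P] using h2
  have hns : ¬ IsScal (Q.ι (φ (AdjoinRoot.root P))) := by
    rw [Q.isScal_iff']
    rintro ⟨a, ha⟩
    rw [ha] at hroot
    apply h a
    apply (algebraMap F E).injective
    simpa using hroot
  exact ⟨_, hns, Q.trace_det_of_root hns hroot⟩

/-- the norm map -/
noncomputable def nm : E →*₀ F where
  toFun ξ := (Q.ι ξ).det
  map_zero' := by simp
  map_one' := by simp
  map_mul' := by simp

theorem nm_apply (ξ : E) : Q.nm ξ = (Q.ι ξ).det := rfl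

theorem nm_surjective : Function.Surjective Q.nm := by
  intro a
  obtain ⟨ξ, hξ⟩ := FiniteField.norm_surjective F E a
  refine ⟨ξ, (algebraMap F E).injective ?_⟩
  rw [nm_apply, Q.det_eq, ← hξ, FiniteField.algebraMap_norm_eq_pow, Nat.card_eq_fintype_card,
    Nat.card_eq_fintype_card, Q.card_E]
  congr 1
  have hq := Fintype.one_lt_card (α := F)
  rw [← one_pow 2, Nat.sq_sub_sq, one_pow, Nat.mul_div_cancel _ (by omega)]

theorem nm_algebraMap (a : F) : Q.nm (algebraMap F E a) = a * a := by
  rw [nm_apply, Q.ι_algebraMap]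
  simp [sq]

theorem nm_pow_card (ξ : E) : Q.nm (ξ ^ Fintype.card F) = Q.nm ξ := by
  rw [map_pow, FiniteField.pow_card]

/-- characters factoring through the norm -/
noncomputable def lift (α : MulChar F ℂ) : MulChar E ℂ := mulCharComp α Q.nm

@[simp] theorem lift_apply (α : MulChar F ℂ) (ξ : E) : Q.lift α ξ = α (Q.ι ξ).det := rfl

theorem lift_injective : Function.Injective Q.lift := by
  intro α β h
  apply MulChar.ext'
  intro a
  obtain ⟨ξ, rfl⟩ := Q.nm_surjective a
  exact DFunLike.congr_fun h ξ

theorem lift_mul (α β : MulChar F ℂ) : Q.lift (α * β) = Q.lift α * Q.lift β :=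
  MulChar.ext' (fun _ => rfl)

theorem lift_pow_card (α : MulChar F ℂ) : Q.lift α ^ Fintype.card F = Q.lift α := by
  apply MulChar.ext'
  intro ξ
  rw [MulChar.pow_apply' _ Fintype.card_ne_zero, ← map_pow]
  change α (Q.nm _) = α (Q.nm _)
  rw [nm_pow_card]

theorem pow_card_eq_iff_pow_sub_one (θ : MulChar E ℂ) :
    θ ^ Fintype.card F = θ ↔ θ ^ (Fintype.card F - 1) = 1 := by
  have hq := Fintype.one_lt_card (α := F)
  conv_lhs => rw [show Fintype.card F = Fintype.card F - 1 + 1 by omega, pow_succ]
  exact mul_eq_right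

theorem exists_lift_iff (θ : MulChar E ℂ) :
    (∃ α, Q.lift α = θ) ↔ θ ^ (Fintype.card F - 1) = 1 := by
  classical
  have hq := Fintype.one_lt_card (α := F)
  constructor
  · rintro ⟨α, rfl⟩
    rw [← pow_card_eq_iff_pow_sub_one, Q.lift_pow_card]
  · intro h
    have hsub : Finset.univ.image Q.lift ⊆
        Finset.univ.filter (fun θ : MulChar E ℂ => θ ^ (Fintype.card F - 1) = 1) := by
      intro x hx
      obtain ⟨a, -, rfl⟩ := Finset.mem_image.mp hx
      simp only [Finset.mem_filter, Finset.mem_univ, true_and]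
      rw [← pow_card_eq_iff_pow_sub_one, Q.lift_pow_card]
    have hcard := IsCyclic.card_pow_eq_one_le (α := MulChar E ℂ) (n := Fintype.card F - 1)
      (by omega)
    have heq := Finset.eq_of_subset_of_card_le hsub (by
      rw [Finset.card_image_of_injective _ Q.lift_injective, Finset.card_univ, card_mulChar]
      exact hcard)
    have : θ ∈ Finset.univ.image Q.lift := by rw [heq]; simp [h]
    obtain ⟨a, -, rfl⟩ := Finset.mem_image.mp this
    exact ⟨a, rfl⟩

include Q in
theorem char_pow_card_pow_card (θ : MulChar E ℂ) :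
    (θ ^ Fintype.card F) ^ Fintype.card F = θ := by
  apply MulChar.ext'
  intro ξ
  rw [MulChar.pow_apply' _ Fintype.card_ne_zero, MulChar.pow_apply' _ Fintype.card_ne_zero,
    ← map_pow, ← map_pow, Q.pow_card_pow_card]

/-- restriction of a character to the base field -/
noncomputable def res (θ : MulChar E ℂ) : MulChar F ℂ :=
  mulCharComp θ (algebraMap F E).toMonoidWithZeroHom

@[simp] theorem res_apply (θ : MulChar E ℂ) (a : F) : res (F := F) θ a = θ (algebraMap F E a) :=
  rfl

/-- the embedding of the unit group -/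
noncomputable def ιu : Eˣ →* GL (Fin 2) F := Units.map Q.ι.toMonoidHom

@[simp] theorem coe_ιu (ξ : Eˣ) : (Q.ιu ξ : Matrix (Fin 2) (Fin 2) F) = Q.ι ξ := rfl

theorem ιu_injective : Function.Injective Q.ιu := by
  intro a b h
  exact Units.ext (Q.inj (congrArg Units.val h))

end QuadEmb

end Cfsg.Agent.H1
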