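import Cfsg.Agent.H5.TA4
import Cfsg.Agent.H5.U3E

/-!
# Rank one subgroups of point stabilisers: the case of a full centre and two points
-/

set_option autoImplicit false
set_option linter.unusedSectionVars false

namespace Cfsg.Agent.H1.TV

open H5.TA

variable {G : Type*} [Group G] [Finite G] {N : Subgroup G} {F K : Type} [Field F] [Field K] {m i : ℕ}

theorem inv_pow_comm {X : Type*} [Group X] {t u v : X} (h : v * (t * u)⁻¹ * v⁻¹ = t * u) (k : ℕ) :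
    v * ((t * u) ^ k)⁻¹ = (t * u) ^ k * v := by
  have := conj_pow (a := v) (b := (t * u)⁻¹) (i := k)
  rw [h, inv_pow] at this
  exact (mul_inv_eq_iff_eq_mul.1 this.symm)

theorem refl_conj {X : Type*} [Group X] {t u : X} (ht : t * t = 1) (hu : u * u = 1) (k : ℕ) :
    ∃ j : ℕ, (t * u) ^ k * t = (t * u) ^ j * t * ((t * u) ^ j)⁻¹ ∨
      (t * u) ^ k * t = (t * u) ^ j * u * ((t * u) ^ j)⁻¹ := by
  have i1 := inv_eq_of_mul_eq_one_right ht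
  have i2 := inv_eq_of_mul_eq_one_right hu
  obtain ⟨j, rfl | rfl⟩ := Nat.even_or_odd' k
  · refine ⟨j, Or.inl ?_⟩
    rw [mul_assoc, inv_pow_comm (by rw [mul_inv_rev, i1, i2, mul_assoc, mul_assoc, ht, mul_one]), ← mul_assoc,
      ← pow_add, two_mul]
  · refine ⟨j + 1, Or.inr ?_⟩
    rw [mul_assoc, inv_pow_comm (by rw [mul_inv_rev, i1, i2, ← mul_assoc, hu, one_mul]), ← mul_assoc,
      ← pow_add, show j + 1 + (j + 1) = 2 * j + 1 + 1 by omega, pow_succ _ (2 * j + 1), mul_assoc, mul_assoc, hu,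
      mul_one]

theorem conj_of_odd {t u : G} (ht : t * t = 1) (hu : u * u = 1) (h : Odd (orderOf (t * u))) :
    ∃ k : ℕ, (t * u) ^ k * u * ((t * u) ^ k)⁻¹ = t := by
  obtain ⟨n, hn⟩ := h
  refine ⟨n + 1, ?_⟩
  rw [mul_assoc, inv_pow_comm (by
      rw [mul_inv_rev, inv_eq_of_mul_eq_one_right ht, inv_eq_of_mul_eq_one_right hu, ← mul_assoc, hu, one_mul]),
    ← mul_assoc, ← pow_add, show n + 1 + (n + 1) = orderOf (t * u) + 1 by omega, pow_succ,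
    pow_orderOf_eq_one, one_mul, mul_assoc, hu, mul_one]

/-- the scalars induced by a subgroup containing the centre and a further involution -/
theorem scal_surj (R : R0 N F K m i) {U : Subgroup G} (hU : U ≤ N) (hZ : R.Z ≤ U) {u : G} (hu : Iv N u)
    (uU : u ∈ U) (hB : u ∉ Nm R.S) {c : F} (hc : c ≠ 0) :
    ∃ g ∈ U, ∃ l, R.ν l = c ∧ ∀ s ∈ R.S, g * s * g⁻¹ ∈ R.S ∧ R.ω (g * s * g⁻¹) = l * R.ω s := by
  have key : ∀ x, x ≠ 0 → ∃ g ∈ U, g * u * g⁻¹ = R.ζ x := fun x hx => by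
    obtain ⟨k, hk⟩ := conj_of_odd (R.ζ_sq x) hu.2.2 (R.odd_prod (R.iv_ζ hx) hu fun e =>
      hB (R.mem_B_of_comm hu.1 (R.ζ_mem x) (R.iv_ζ hx).2.1 e.symm))
    exact ⟨_, pow_mem (mul_mem (hZ (R.ζ_mem_Z x)) uU) k, hk⟩
  obtain ⟨g1, h1, e1⟩ := key 1 one_ne_zero
  obtain ⟨g2, h2, e2⟩ := key c hc
  have e : g2 * g1⁻¹ * R.ζ 1 * (g2 * g1⁻¹)⁻¹ = R.ζ c := by rw [← e1, ← e2]; group
  have hg : g2 * g1⁻¹ ∈ U := mul_mem h2 (inv_mem h1)
  obtain ⟨s, hs, t, ht, e'⟩ := (R.mem_B (hU hg)).1 (R.Nm_of_mem (le_Nm (hU hg)) (R.ζ_mem 1)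
    (R.iv_ζ one_ne_zero).2.1 (e ▸ R.ζ_mem c))
  refine ⟨_, hg, R.ψ t, R.ζ_inj ?_, fun s' hs' => ?_⟩
  · rw [← e, e', show s * t * R.ζ 1 * (s * t)⁻¹ = s * (t * R.ζ 1 * t⁻¹) * s⁻¹ by group, R.ζ_conj t ht,
      ← R.ζ_comm _ s hs, mul_one, mul_inv_cancel_right]
  · have a := R.T_norm t ht s' hs'
    rw [e', show s * t * s' * (s * t)⁻¹ = s * (t * s' * t⁻¹) * s⁻¹ by group]
    refine ⟨mul_mem (mul_mem hs a) (inv_mem hs), ?_⟩
    rw [R.ω_mul _ (mul_mem hs a) _ (inv_mem hs), R.ω_mul _ hs _ a, R.ω_inv hs, R.ω_conj t ht s' hs']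
    linear_combination R.addK (R.ω s)

/-- blocks of the unital -/
theorem blk (R : R0 N F K m 3) {z : G} (hz : z ∈ R.Z) (h1 : z ≠ 1) :
    ∃ z', ∃ h : z' ∈ R.opp.Z, nm (R.S_le (R.Z_le hz)) • R.pt' = nm (R.opp.S_le (R.opp.Z_le h)) • R.pt := by
  obtain ⟨t, ht, t1, t2⟩ : ∃ t ∈ R.T, R.ψ t ≠ 1 ∧ R.ν (R.ψ t) = 1 := by
    rcases R.typ with h | h | h
    · omega
    · omega
    · exact h.2.2.2.2
  obtain ⟨x, rfl⟩ := R.mem_Z.1 hz
  have a1 : nm (R.T_le ht) • nm (R.S_le (R.ζ_mem x)) • R.pt' = nm (R.S_le (R.ζ_mem x)) • R.pt' :=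
    (R.fix_iff (R.T_fix ht) (R.T_fix' ht) (R.ζ_mem x)).2 (by simp [R.ζ_conj t ht, t2])
  obtain ⟨s, hs, e⟩ := R.opp.exists_S (p := nm (R.S_le (R.ζ_mem x)) • R.pt') (by
    rw [R.opp_pt]
    exact fun k => R.pt'_ne (R.S_fix (R.ζ_mem x) h1 k))
  have ht' : t ∈ R.opp.T := R.opp_T ▸ ht
  rw [e] at a1
  have a2 := (R.opp.fix_iff (R.opp.T_fix ht') (R.opp.T_fix' ht') hs).1 a1
  have a3 := R.opp.ω_conj t ht' s hs
  rw [show t * s * t⁻¹ = s from a2] at a3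
  refine ⟨s, (R.opp.ω_eq_zero hs).1 ?_, by rw [← R.opp_pt']; exact e⟩
  by_contra k
  exact t1 (by rw [R.opp.ψ_inj t ht' (mul_right_cancel₀ k (by rw [← a3, one_mul])), R.ψ_one])

theorem F3 (R : R0 N F K m i) {U : Subgroup G} (hU : U ≤ N) (hZ : R.Z ≤ U) {u : G} (hu : Iv N u)
    (uU : u ∈ U) (hB : u ∉ Nm R.S) {s : G} (hs : s ∈ R.S) (sU : s ∈ U) (sZ : s ∉ R.Z) :
    ∀ v, Iv N v → v ∈ U := by
  classical
  have a0 : R.ω s ≠ 0 := fun k => sZ ((R.ω_eq_zero hs).1 k)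
  have cl : ∀ s' ∈ R.S, ∀ s'' ∈ R.S, s'' ∈ U → R.ω s' = R.ω s'' → s' ∈ U := fun s' h1 s'' h2 h3 h4 => by
    obtain ⟨x, rfl⟩ := (R.ω_eq_iff h1 h2).1 h4
    exact mul_mem (hZ (R.ζ_mem_Z x)) h3
  by_cases h3 : i = 3
  swap
  · have : R.S ≤ U := fun s' hs' => by
      by_cases k : R.ω s' = 0
      · exact hZ ((R.ω_eq_zero hs').1 k)
      obtain ⟨g, hg, l, e, k'⟩ := scal_surj R hU hZ hu uU hB (c := R.ν (R.ω s' / R.ω s))
        (fun e => div_ne_zero k a0 (R.ν_eq_zero.1 e))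
      refine cl _ hs' _ (k' s hs).1 (mul_mem (mul_mem hg sU) (inv_mem hg)) ?_
      rw [(k' s hs).2, R.ν_inj h3 e, div_mul_cancel₀ _ a0]
    exact fun v hv => R.G1 this uU (le_Nm hu.1) hB hv.1
  subst h3
  intro v hv
  by_contra vU
  obtain ⟨Q, rfl⟩ := R.exists_at hv
  -- the points of `U`
  let PU : Pt N F K m 3 → Prop := fun p => ∀ z ∈ p.1, z * z = 1 → z ∈ U
  have pu0 : PU R.pt := fun z hz h => hZ ((R.sq_eq_one hz).1 h)
  have pu1 : ∀ g (hg : g ∈ U) p, PU p → PU (nm (hU hg) • p) := fun g hg p hp z hz h => by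
    have := hp _ (mem_cj.1 hz) (by
      rw [show g⁻¹ * z * g * (g⁻¹ * z * g) = g⁻¹ * (z * z) * g by group, h]; group)
    have := mul_mem (mul_mem hg this) (inv_mem hg)
    rwa [show g * (g⁻¹ * z * g) * g⁻¹ = z by group] at this
  have puQ : ¬ PU Q.pt := fun k => vU (k _ (Q.ζ_mem 1) (Q.ζ_sq 1))
  have inj : ∀ p p', PU p → PU p' → ∀ z (hz : z ∈ Q.Z), nm (Q.S_le (Q.Z_le hz)) • p = p' → z = 1 := by
    intro p p' hp hp' z hz e
    by_contra z1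
    obtain ⟨Q', e1, e2, rfl⟩ := Q.exists_pt' (p' := p) fun k => puQ (k ▸ hp)
    have hz' : z ∈ Q'.Z := Q.Z_eq e1 ▸ hz
    obtain ⟨z', h', e'⟩ := blk Q' hz' z1
    have b1 : z' ∈ U := hp z' (by rw [← Q'.opp_pt]; exact Q'.opp.Z_le h') (Q'.opp.Z_sq h')
    have b2 := pu1 _ (inv_mem b1) _ hp'
    rw [← e, e', ← mul_smul, show nm (hU (inv_mem b1)) * nm (Q'.opp.S_le (Q'.opp.Z_le h')) = 1 from
      Subtype.ext (inv_mul_cancel z'), one_smul] at b2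
    exact puQ (by rwa [show Q.pt = Q'.pt from Subtype.ext e1.symm])
  -- many elements of `S ∩ U`
  have ex : ∀ c : F, ∃ y ∈ R.S, y ∈ U ∧ R.ν (R.ω y) = c * R.ν (R.ω s) := fun c => by
    by_cases hc : c = 0
    · exact ⟨1, one_mem _, one_mem _, by simp [hc, R.ω_one, R.ν_zero]⟩
    obtain ⟨g, hg, l, e, k'⟩ := scal_surj R hU hZ hu uU hB hc
    exact ⟨_, (k' s hs).1, mul_mem (mul_mem hg sU) (inv_mem hg), by rw [(k' s hs).2, R.ν_mul, e]⟩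
  choose y y1 y2 y3 using ex
  have p0 : nm hu.1 • R.pt ≠ R.pt := fun k => hB (R.fix_pt.1 k)
  have m1 : ∀ c x, y c * R.ζ x ∈ R.S := fun c x => mul_mem (y1 c) (R.ζ_mem x)
  let pp : Option (F × F) → Pt N F K m 3 := fun o =>
    o.elim R.pt fun cx => nm (R.S_le (m1 cx.1 cx.2)) • nm hu.1 • R.pt
  have pp1 : ∀ o, PU (pp o) := by
    rintro (_ | ⟨c, x⟩)
    · exact pu0
    · exact pu1 _ (mul_mem (y2 c) (hZ (R.ζ_mem_Z x))) _ (pu1 _ uU _ pu0)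
  have ne : ∀ s' (h : s' ∈ R.S), nm (R.S_le h) • nm hu.1 • R.pt ≠ R.pt := fun s' h k =>
    p0 (smul_left_cancel (nm (R.S_le h)) (k.trans (R.fix_pt.2 (R.S_le_Nm h)).symm))
  have pp2 : Function.Injective pp := by
    rintro (_ | ⟨c, x⟩) (_ | ⟨c', x'⟩) e
    · rfl
    · exact (ne _ (m1 c' x') e.symm).elim
    · exact (ne _ (m1 c x) e).elim
    · have b1 : (y c' * R.ζ x')⁻¹ * (y c * R.ζ x) = 1 := by
        by_contra k
        refine p0 (R.S_fix (mul_mem (inv_mem (m1 c' x')) (m1 c x)) k ?_)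
        change ((nm (R.S_le (m1 c' x')))⁻¹ * nm (R.S_le (m1 c x))) • _ = _
        rw [mul_smul, inv_smul_eq_iff]
        exact e
      rw [inv_mul_eq_one] at b1
      have b2 := congrArg (fun g => R.ν (R.ω g)) b1
      simp only [R.ω_mul _ (y1 _) _ (R.ζ_mem _), R.ω_ζ, add_zero, y3] at b2
      obtain rfl : c' = c := mul_right_cancel₀ (fun k => a0 (R.ν_eq_zero.1 k)) b2
      rw [R.ζ_inj (mul_left_cancel b1)]
  haveI := R.finF
  have := Nat.card_le_card_of_injective (α := Option (Option (F × F) × F)) (β := Pt N F K m 3)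
    (fun o => o.elim Q.pt fun ox => nm (Q.S_le (Q.ζ_mem ox.2)) • pp ox.1) (by
      have ne' : ∀ o x, nm (Q.S_le (Q.ζ_mem x)) • pp o ≠ Q.pt := fun o x k => puQ (by
        rw [← smul_left_cancel (nm (Q.S_le (Q.ζ_mem x))) (k.trans (Q.fix_pt.2 (Q.S_le_Nm (Q.ζ_mem x))).symm)]
        exact pp1 o)
      rintro (_ | ⟨o, x⟩) (_ | ⟨o', x'⟩) e
      · rfl
      · exact (ne' _ _ e.symm).elim
      · exact (ne' _ _ e).elim
      · have b1 := inj _ _ (pp1 o) (pp1 o') _ (mul_mem (inv_mem (Q.ζ_mem_Z x')) (Q.ζ_mem_Z x)) (by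
          change ((nm (Q.S_le (Q.ζ_mem x')))⁻¹ * nm (Q.S_le (Q.ζ_mem x))) • _ = _
          rw [mul_smul, inv_smul_eq_iff]
          exact e)
        obtain rfl := Q.ζ_inj (inv_mul_eq_one.1 b1)
        obtain rfl : o = o' := pp2 (smul_left_cancel _ e)
        rfl)
  rw [R.card_Pt, Finite.card_option, Nat.card_prod, Finite.card_option, Nat.card_prod, R.cardF] at this
  have := R.four_le
  nlinarith

variable {Ω : Type*} [Finite Ω] [MulAction G Ω] (C : Cfg G Ω F K m i)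

theorem not_all {a b : Ω} (hab : a ≠ b) : ∃ v, Iv (C.N a) v ∧ v • b ≠ b := by
  by_contra k
  push Not at k
  obtain ⟨R⟩ := C.loc a
  obtain ⟨t, ht⟩ := C.exists_iv a
  let M : Subgroup G := C.N a ⊓ ⨅ n ∈ C.N a, MulAction.stabilizer G (n • b)
  have mem : ∀ g, g ∈ M ↔ g ∈ C.N a ∧ ∀ n ∈ C.N a, g • n • b = n • b := fun g => by
    simp [M, Subgroup.mem_iInf]
  rcases R.simple' (M := M) inf_le_left (fun g hg x hx => by
    rw [mem] at hx ⊢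
    refine ⟨mul_mem (mul_mem hg hx.1) (inv_mem hg), fun n hn => ?_⟩
    rw [mul_smul, mul_smul, ← mul_smul g⁻¹, hx.2 _ (mul_mem (inv_mem hg) hn), mul_smul, smul_inv_smul]) with e | e
  · refine ht.2.1 (Subgroup.mem_bot.1 (e ▸ (mem t).2 ⟨ht.1, fun n hn => ?_⟩))
    have := k _ (ht.conj (g := n⁻¹) (mul_mem (mul_mem (inv_mem hn) ht.1) (inv_mem (inv_mem hn))))
    rwa [inv_inv, mul_smul, mul_smul, inv_smul_eq_iff] at this
  · obtain ⟨n, hn, h⟩ := C.exists_move' hab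
    simpa [h] using ((mem n).1 (e ▸ hn)).2 1 (one_mem _)

theorem pieceIV1 (_h1 : ∀ a b, a ≠ b → ∃ t, Iv (C.N a) t ∧ t ∈ C.N b)
    (hF : ∀ a b t, Iv (C.N a) t → t • b = b → t ∈ C.N b) {a b : Ω} {t : G} (hab : a ≠ b)
    (ht : Iv (C.N a) t) (htb : t ∈ C.N b) (hZ : ∀ u, Iv (C.N a) u → Commute u t → u • b = b)
    (hn : ∃ u, Iv (C.N a) u ∧ u ∈ C.N b ∧ ¬ Commute t u) : False := by
  obtain ⟨R, rfl⟩ := C.exists_at ht
  haveI := R.finF
  have Zb : ∀ z ∈ R.Z, z • b = b := fun z hz => by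
    rcases eq_or_ne z 1 with rfl | z1
    · simp
    · exact hZ z ⟨R.S_le (R.Z_le hz), z1, R.Z_sq hz⟩ (R.Z_comm hz (R.ζ_mem 1))
  -- local data at the fixed points of `Z`
  have loc : ∀ e, (∀ z ∈ R.Z, z • e = e) → ∃ R' : R0 (C.N e) F K m i, R'.ζ 1 = R.ζ 1 ∧ R'.Z = R.Z := by
    intro e he
    obtain ⟨R', e1⟩ := C.exists_at (a := e) ⟨hF a e _ ht (he _ (R.ζ_mem_Z 1)), ht.2⟩
    refine ⟨R', e1, (Subgroup.eq_of_le_of_card_ge (fun z hz => ?_) (by rw [R.card_Z, R'.card_Z])).symm⟩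
    rcases eq_or_ne z 1 with rfl | z1
    · exact one_mem _
    have iz : Iv (C.N a) z := ⟨R.S_le (R.Z_le hz), z1, R.Z_sq hz⟩
    exact R'.iv_mem_Z_of_comm ⟨hF a e z iz (he z hz), iz.2⟩ (R'.ζ_mem 1) (e1 ▸ ht.2.1)
      (e1 ▸ R.Z_comm hz (R.ζ_mem 1))
  have semi : ∀ e e' (R' : R0 (C.N e) F K m i), R'.Z = R.Z → e ≠ e' → (∀ z ∈ R.Z, z • e' = e') →
      ∀ s ∈ R'.S, s • e' = e' → s ∈ R.Z := by
    intro e e' R' e2 hne he' s hs k
    by_contra sZ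
    obtain ⟨g, g1, g2⟩ := C.two a b e e' hab hne
    obtain ⟨u, u1, u2, u3⟩ := hn
    obtain ⟨v, v1, v2, v3⟩ : ∃ v, Iv (C.N e) v ∧ v ∈ C.N e' ∧ v ∉ Nm R'.S := by
      by_contra k
      push Not at k
      have c1 := R'.iv_mem_Z (C.iv_conj g1 ht) (k _ (C.iv_conj g1 ht) (C.eqv' g2 htb))
      have c2 := R'.iv_mem_Z (C.iv_conj g1 u1) (k _ (C.iv_conj g1 u1) (C.eqv' g2 u2))
      have := R'.Z_comm c1 (R'.Z_le c2)
      refine u3 (mul_left_cancel (a := g) (mul_right_cancel (b := g⁻¹) ?_))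
      calc _ = g * R.ζ 1 * g⁻¹ * (g * u * g⁻¹) := by group
        _ = _ := by rw [this]; group
    obtain ⟨w, w1, w2⟩ := not_all C hne
    exact w2 (F3 R' (U := C.N e ⊓ MulAction.stabilizer G e') inf_le_left
      (fun z hz => ⟨R'.S_le (R'.Z_le hz), he' z (e2 ▸ hz)⟩) v1 ⟨v1.1, C.fix _ _ v2⟩ v3 hs ⟨R'.S_le hs, k⟩
      (e2 ▸ sZ) w w1).2
  obtain ⟨Rb, b1, b2⟩ := loc b Zb
  have Za : ∀ z ∈ R.Z, z • a = a := fun z hz => C.fix _ _ (R.S_le (R.Z_le hz))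
  have hi : i ≠ 1 := fun hi => by
    obtain ⟨u, u1, u2, u3⟩ := hn
    obtain ⟨n, hn, h⟩ := C.exists_move' hab
    exact h (R.G1 (M := MulAction.stabilizer G b) (fun s hs => Zb s (R.S_eq_Z hi ▸ hs)) (C.fix _ _ u2)
      (le_Nm u1.1) (fun k => u3 (R.Z_comm (R.iv_mem_Z u1 k) (R.ζ_mem 1)).symm) hn)
  let H := Subgroup.centralizer (R.Z : Set G)
  have hH : ∀ {g : G}, g ∈ H ↔ ∀ z ∈ R.Z, z * g = g * z := Iff.rfl
  haveI : (R.Z.subgroupOf H).Normal := ⟨fun z hz g => by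
    rw [Subgroup.mem_subgroupOf] at hz ⊢
    rwa [Subgroup.coe_mul, Subgroup.coe_mul, ← hH.1 g.2 _ hz, Subgroup.coe_inv, mul_inv_cancel_right]⟩
  have fixH : ∀ g ∈ H, ∀ e : Ω, (∀ z ∈ R.Z, z • e = e) → ∀ z ∈ R.Z, z • g • e = g • e := fun g hg e he z hz => by
    rw [← mul_smul, hH.1 hg z hz, mul_smul, he z hz]
  -- conjugates of elements of the Sylow groups
  have cjS : ∀ e (R' : R0 (C.N e) F K m i), R'.Z = R.Z → (∀ z ∈ R.Z, z • e = e) → ∀ g ∈ H, ∀ x ∈ R'.S, x ∉ R.Z →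
      (g * x * g⁻¹) • a = a → g * x * g⁻¹ ∈ R.S := by
    intro e R' e2 he g hg x hx xZ k
    have e3 : g • e = a := by
      by_contra k'
      refine xZ (semi e (g⁻¹ • a) R' e2 (fun k'' => k' (by rw [k'', smul_inv_smul])) (fixH _ (inv_mem hg) a Za)
        x hx ?_)
      rwa [mul_smul, mul_smul, smul_eq_iff_eq_inv_smul] at k
    have n1 := C.eqv' e3 (R'.S_le hx)
    refine R.mem_S_of_two (k := 2) n1 (R.mem_B_of_comm n1 (R.ζ_mem 1) ht.2.1 ?_) (by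
      rw [conj_pow, R'.pow_four hx]; group)
    exact (hH.1 (mul_mem (mul_mem hg fun z hz => R'.Z_comm (e2 ▸ hz) hx) (inv_mem hg)) _ (R.ζ_mem_Z 1)).symm
  have sqe : ∀ x ∈ R.S, x ∉ R.Z → ∀ y ∈ Rb.S, y ∉ R.Z → x * x = y * y := by
    intro x hx xZ y hy yZ
    have xH : x ∈ H := fun z hz => R.Z_comm hz hx
    have yH : y ∈ H := fun z hz => Rb.Z_comm (b2 ▸ hz) hy
    let π := QuotientGroup.mk' (R.Z.subgroupOf H)
    have πe : ∀ g g' : H, π g = π g' → ∃ z ∈ R.Z, (g' : G) = g * z := fun g g' e =>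
      ⟨_, Subgroup.mem_subgroupOf.1 (QuotientGroup.eq.1 e), by simp⟩
    have π1 : ∀ g : H, π g = 1 ↔ (g : G) ∈ R.Z := fun g => QuotientGroup.eq_one_iff g
    obtain ⟨k, hk | ⟨k1, k2, k3, k4⟩⟩ := H5.invol_dihedral (a := π ⟨x, xH⟩) (c := π ⟨y, yH⟩)
      (by rw [← map_mul, π1]; exact R.sq_mem hx) (by rw [← map_mul, π1]; exact b2 ▸ Rb.sq_mem hy)
    · rw [← map_mul, ← map_pow, ← map_mul, ← map_mul] at hk
      obtain ⟨z, hz, e⟩ := πe _ _ hk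
      simp only [Subgroup.coe_mul, Subgroup.coe_pow] at e
      have gH : (x * y) ^ k ∈ H := pow_mem (mul_mem xH yH) k
      generalize (x * y) ^ k = g at e gH
      have e' : y = g * (x * z) * g⁻¹ := by rw [eq_mul_inv_iff_mul_eq, e, mul_assoc]
      rw [e', show g * (x * z) * g⁻¹ * (g * (x * z) * g⁻¹) = g * (x * (z * x) * z) * g⁻¹ by group,
        R.Z_comm hz hx, show g * (x * (x * z) * z) * g⁻¹ = g * (x * x) * (z * z) * g⁻¹ by group, R.Z_sq hz,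
        mul_one, ← hH.1 gH _ (R.sq_mem hx), mul_inv_cancel_right]
    · exfalso
      rw [← map_mul, ← map_pow] at k1 k2 k3 k4
      refine k1 ((π1 _).2 ?_)
      simp only [Subgroup.coe_mul, Subgroup.coe_pow]
      have fa : ∀ e (R' : R0 (C.N e) F K m i), R'.Z = R.Z → (∀ z ∈ R.Z, z • e = e) → ∀ x (hx : x ∈ R'.S)
          (xH : x ∈ H), x ∉ R.Z → ∀ w : H, Commute (π ⟨x, xH⟩) (π w) → (w : G) • e = e := by
        intro e R' e2 he x hx xH xZ w c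
        obtain ⟨z, hz, k⟩ := πe _ _ (show π (w * ⟨x, xH⟩) = π (⟨x, xH⟩ * w) by
          rw [map_mul, map_mul, c.eq])
        by_contra k'
        refine xZ (semi e _ R' e2 (Ne.symm k') (fixH _ w.2 e he) x hx ?_)
        rw [← mul_smul, show x * w = w * x * z from k, mul_smul, he z hz, mul_smul, C.fix _ _ (R'.S_le hx)]
      have f1 := fa a R rfl Za x hx xH xZ _ k3
      have f2 := fa b Rb b2 Zb y hy yH yZ _ k4
      simp only [Subgroup.coe_mul, Subgroup.coe_pow] at f1 f2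
      refine semi a b R rfl hab Zb _ ?_ f2
      have fin : ∀ e (R' : R0 (C.N e) F K m i), R'.Z = R.Z → (∀ z ∈ R.Z, z • e = e) → ∀ v (hv : v ∈ R'.S)
          (vH : v ∈ H), v ∉ R.Z → ∀ g : H, π ((⟨x, xH⟩ * ⟨y, yH⟩) ^ k * ⟨x, xH⟩) = π (g * ⟨v, vH⟩ * g⁻¹) →
          (x * y) ^ k ∈ R.S := by
        intro e R' e2 he v hv vH vZ g eq
        obtain ⟨z, hz, k'⟩ := πe _ _ eq
        simp only [Subgroup.coe_mul, Subgroup.coe_pow, Subgroup.coe_inv] at k'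
        have := cjS e R' e2 he g g.2 v hv vZ (by
          rw [k', mul_smul, Za z hz, mul_smul, C.fix _ _ (R.S_le hx), f1])
        rw [k'] at this
        exact (R.S.mul_mem_cancel_right hx).1 ((R.S.mul_mem_cancel_right (R.Z_le hz)).1 this)
      obtain ⟨j, hj | hj⟩ := refl_conj (t := π ⟨x, xH⟩) (u := π ⟨y, yH⟩)
        (by rw [← map_mul, π1]; exact R.sq_mem hx) (by rw [← map_mul, π1]; exact b2 ▸ Rb.sq_mem hy) k
      · exact fin a R rfl Za x hx xH xZ ((⟨x, xH⟩ * ⟨y, yH⟩) ^ j) (by simpa only [map_mul, map_pow, map_inv] using hj)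
      · exact fin b Rb b2 Zb y hy yH yZ ((⟨x, xH⟩ * ⟨y, yH⟩) ^ j) (by simpa only [map_mul, map_pow, map_inv] using hj)
  obtain ⟨x, hx, x1⟩ := R.ω_surj hi 1
  obtain ⟨y, hy, y1⟩ := Rb.ω_surj hi 1
  obtain ⟨c, c0, c1⟩ := R.exists_F
  obtain ⟨t, ht, e⟩ := R.χ_surj c c0
  have xZ : x ∉ R.Z := fun k => by simpa [x1] using (R.ω_eq_zero hx).2 k
  have yZ : y ∉ R.Z := fun k => by simpa [y1] using (Rb.ω_eq_zero hy).2 (b2 ▸ k)
  have k1 := sqe x hx xZ y hy yZ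
  have k2 := sqe _ (R.T_norm t ht x hx) (fun k => by
    simpa [R.ω_conj t ht x hx, x1, R.ψ_ne t ht] using (R.ω_eq_zero (R.T_norm t ht x hx)).2 k) y hy yZ
  rw [← k1, R.sq _ hx, R.sq _ (R.T_norm t ht x hx), R.ω_conj t ht x hx, x1, mul_one, e, R.ν_one] at k2
  exact c1 (R.ζ_inj k2)

end Cfsg.Agent.H1.TV
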