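import Cfsg.Agent.H1.TV4
import Cfsg.Agent.H4.PG

/-!
# Case IV.2
-/

set_option autoImplicit false

namespace Cfsg.Agent.H1.TV

open Cfsg.Agent.H5.TA

variable {G Ω : Type*} [Group G] [Finite G] [Finite Ω] [MulAction G Ω] {F K : Type} [Field F] [Field K] {m i : ℕ}

theorem pieceIV2 (C : Cfg G Ω F K m i) (h1 : ∀ a b, a ≠ b → ∃ t, Iv (C.N a) t ∧ t ∈ C.N b)
    (hF : ∀ a b t, Iv (C.N a) t → t • b = b → t ∈ C.N b) (a b : Ω) (t : G) (hab : a ≠ b)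
    (ht : Iv (C.N a) t) (_htb : t ∈ C.N b) (hZ : ∀ u, Iv (C.N a) u → Commute u t → u • b = b)
    (hc : ∀ u, Iv (C.N a) u → u ∈ C.N b → Commute t u) : (Nat.card Ω = 6 ∧ m = 2 ∧ i = 1) ∨ HasReg G Ω :=
  have H := h2_of C h1 hF hab ht hZ hc
  have R := (C.loc a).some
  H.main R (fun hκ _ hh _ hb ne k => H4.PA.torus_B H R hκ hh hb ne k) fun _ hκ => H4.PA.torus_C H R hκ

end Cfsg.Agent.H1.TV
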