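import Cfsg.Agent.H1.Heis

/-!
# The Weil characters; representations of Weil type
-/

set_option autoImplicit false
set_option linter.unusedSectionVars false

namespace Cfsg.Agent.H1

open Cfsg Module H5
open scoped ComplexConjugate

theorem isIrr_of_norm_le_two {G : Type*} [Group G] [Fintype G] {a b : G → ℂ}
    (ha : IsCharacter G a) (hb : IsCharacter G b) (ha0 : a ≠ 0) (hb0 : b ≠ 0) {n : ℕ} (hn : n ≤ 2)
    (h : classInner (a + b) (a + b) = n) : IsIrrCharacter G a ∧ IsIrrCharacter G b := by
  obtain ⟨m1, h1⟩ := IsCharacter.classInner_nat ha ha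
  obtain ⟨m2, h2⟩ := IsCharacter.classInner_nat ha hb
  obtain ⟨m3, h3⟩ := IsCharacter.classInner_nat hb ha
  obtain ⟨m4, h4⟩ := IsCharacter.classInner_nat hb hb
  rw [classInner_add_left, classInner_add_right, classInner_add_right, h1, h2, h3, h4] at h
  have h5 : m1 + m2 + (m3 + m4) = n := by exact_mod_cast h
  have p1 : m1 ≠ 0 := fun e => ha0 (classInner_self_eq_zero (by rw [h1, e]; simp))
  have p4 : m4 ≠ 0 := fun e => hb0 (classInner_self_eq_zero (by rw [h4, e]; simp))
  exact ⟨IsCharacter.isIrr ha (by rw [h1, show m1 = 1 by omega]; simp),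
    IsCharacter.isIrr hb (by rw [h4, show m4 = 1 by omega]; simp)⟩

theorem sum_conj_smul_rep {G : Type*} [Group G] [Fintype G] {V : Type*}
    [AddCommGroup V] [Module ℂ V] [FiniteDimensional ℂ V] (ρ : Representation ℂ G V)
    (hρ : ρ.IsIrreducible) {χ : G → ℂ} (hχ : IsIrrCharacter G χ) :
    ∑ g, conj (χ g) • ρ g = 0 ↔ χ ≠ ρ.character := by
  have hf := IsClassFunction.conj (IsCharacter.isClassFunction (IsIrrCharacter.isCharacter hχ))
  have hρ' := isIrrCharacter_of_rep ρ hρ
  rw [sum_smul_rep_eq ρ hρ hf]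
  constructor
  · rintro h rfl
    have h1 := congrArg (LinearMap.trace ℂ V) h
    have h2 := IsIrrCharacter.classInner_self hχ
    have h3 := IsIrrCharacter.one_ne_zero hχ
    simp only [Representation.char_one] at h3
    simp only [map_smul, LinearMap.trace_id, smul_eq_mul, map_zero, Representation.char_one,
      mul_eq_zero, h3, div_eq_zero_iff, or_false] at h1
    simp only [classInner, mul_comm _ (conj _), h1] at h2
    simp at h2
  · intro h
    have := IsIrrCharacter.classInner_of_ne hρ' hχ (Ne.symm h)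
    simp only [classInner, mul_eq_zero, inv_eq_zero, card_ne_zero', false_or] at this
    simp only [mul_comm (conj _), this, zero_div, zero_smul]

/-- if `ρ` factors linearly through `ω = S ⊕ T`, an irreducible `ρ` is `S` or `T` -/
theorem character_eq_of_linear {G : Type*} [Group G] [Fintype G] {V W : Type*}
    [AddCommGroup V] [Module ℂ V] [FiniteDimensional ℂ V] [AddCommGroup W] [Module ℂ W]
    [FiniteDimensional ℂ W] (ρ : Representation ℂ G V) (hρ : ρ.IsIrreducible)
    (ω : Representation ℂ G W) (S T : Subrepresentation ω)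
    (hc : IsCompl S.toSubmodule T.toSubmodule) (hS : S.toRepresentation.IsIrreducible)
    (hT : T.toRepresentation.IsIrreducible)
    (Φ : Module.End ℂ W →ₗ[ℂ] Module.End ℂ V) (h : ∀ g, Φ (ω g) = ρ g) :
    ρ.character = S.toRepresentation.character ∨ ρ.character = T.toRepresentation.character := by
  by_contra hne
  push Not at hne
  have hχ := isIrrCharacter_of_rep ρ hρ
  have h1 := (sum_conj_smul_rep _ hS hχ).mpr hne.1
  have h2 := (sum_conj_smul_rep _ hT hχ).mpr hne.2
  have h3 : ∑ g, conj (ρ.character g) • ω g = 0 := by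
    ext z
    obtain ⟨a, b, rfl⟩ := exists_add_of_isCompl hc z
    have e1 := congrArg Subtype.val (DFunLike.congr_fun h1 a)
    have e2 := congrArg Subtype.val (DFunLike.congr_fun h2 b)
    simp only [LinearMap.sum_apply, LinearMap.smul_apply, Submodule.coe_sum, Submodule.coe_smul,
      LinearMap.zero_apply, Submodule.coe_zero] at e1 e2
    rw [map_add]
    simp only [LinearMap.sum_apply, LinearMap.smul_apply, LinearMap.zero_apply]
    exact (congrArg₂ (· + ·) e1 e2).trans (add_zero _)
  have h4 := congrArg Φ h3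
  simp only [map_sum, map_smul, h, map_zero] at h4
  exact (sum_conj_smul_rep ρ hρ hχ).mp h4 rfl

variable {F : Type*} [Field F] [Fintype F] {E : Type*} [AddCommGroup E] [Module F E]
  [FiniteDimensional F E] [Fintype E]

/-- the Schrödinger model -/
noncomputable def stdHeis (n : ℕ) {ψ : AddChar F ℂ} (hψ : ψ ≠ 1) (h2 : (2 : F) ≠ 0) :
    Heis (stdSp n F) ψ ((Fin n → F) → ℂ) where
  h v :=
    { toFun := fun φ y => ψ (-(∑ i, v (.inl i) * (2 * y i + v (.inr i)))) *
        φ (y + fun i => v (.inr i))
      map_add' := fun _ _ => by ext; simp [mul_add]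
      map_smul' := fun _ _ => by ext; simp [mul_left_comm] }
  mul u v := by
    refine LinearMap.ext fun φ => funext fun y => ?_
    simp only [Module.End.mul_apply, LinearMap.coe_mk, AddHom.coe_mk, Pi.add_apply,
      LinearMap.smul_apply, Pi.smul_apply, smul_eq_mul, ← mul_assoc, ← AddChar.map_add_eq_mul,
      stdSp_apply']
    congr 2
    · simp only [← Finset.sum_neg_distrib, ← Finset.sum_add_distrib]
      exact Finset.sum_congr rfl fun i _ => by ring
    · ext i; simp [add_assoc]
  zero := by
    refine LinearMap.ext fun φ => funext fun y => ?_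
    simp only [LinearMap.coe_mk, AddHom.coe_mk, Pi.zero_apply, zero_mul, Finset.sum_const_zero,
      neg_zero, AddChar.map_zero_eq_one, one_mul, Module.End.one_apply]
    congr 1
    ext i; simp
  dim := by
    classical
    simp [← pow_add]
  sp := isSp_std n
  psi := hψ
  two := h2

namespace Heis

variable {B : Bil F E} {ψ : AddChar F ℂ} {W : Type*} [AddCommGroup W] [Module ℂ W]
  [FiniteDimensional ℂ W] (H : Heis B ψ W)

/-- the even and odd parts of the Weil representation -/
noncomputable def sub (ε : ℂ) : Subrepresentation H.weil :=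
  ⟨H.Wp ε, fun g v hv => Int.maps H (H.int_weil g) ε v hv⟩

/-- the Weil characters -/
noncomputable def chi (ε : ℂ) : Isom B → ℂ := (H.sub ε).toRepresentation.character

theorem chi_one (ε : ℂ) : H.chi ε 1 = finrank ℂ (H.Wp ε) := Representation.char_one _

theorem finrank_intertwining (h0 : 0 < finrank F E) :
    finrank ℂ (H.weil.IntertwiningMap H.weil) ≤ 2 := by
  obtain ⟨v, -, hv⟩ := exists_not_mem_of_finrank_lt (S := (⊥ : Submodule F E)) (T := ⊤)
    (by rw [finrank_top, finrank_bot]; omega)
  replace hv : v ≠ 0 := by simpa using hv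
  let f : H.weil.IntertwiningMap H.weil →ₗ[ℂ] ℂ × ℂ :=
    { toFun := fun A => (H.basis.repr A.toLinearMap 0, H.basis.repr A.toLinearMap v)
      map_add' := fun A A' => by simp
      map_smul' := fun c A => by
        have : (c • A).toLinearMap = c • A.toLinearMap := rfl
        simp [this] }
  have := LinearMap.finrank_le_finrank_of_injective (f := f) (by
    rw [← LinearMap.ker_eq_bot, eq_bot_iff]
    intro A hA
    have h1 : H.basis.repr A.toLinearMap 0 = 0 := congrArg Prod.fst hA
    have h2 : H.basis.repr A.toLinearMap v = 0 := congrArg Prod.snd hA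
    have h3 : ∀ u, H.basis.repr A.toLinearMap u = 0 := by
      intro u
      by_cases hu : u = 0
      · rw [hu, h1]
      obtain ⟨g, rfl⟩ := sp_move H.sp hv hu
      have e : (A.toLinearMap : Module.End ℂ W) * H.weil g = H.weil g * A.toLinearMap :=
        A.isIntertwining' g
      rw [← H.sum_repr A.toLinearMap, Finset.mul_sum] at e
      simp only [mul_smul_comm, (H.int_weil g).2, ← smul_mul_assoc, ← Finset.sum_mul] at e
      have e2 := (H.int_weil g).1.mul_right_cancel e
      have := H.eq_of_sum_eq (a := fun x => H.basis.repr A.toLinearMap x)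
        (b := fun x => H.basis.repr A.toLinearMap (g.1.symm x)) (by
          rw [e2]
          exact Fintype.sum_equiv g.1.toEquiv _ _ fun x => by simp [isoAct_apply])
      rw [congrFun this]
      simpa [isoAct_apply] using h2
    rw [Submodule.mem_bot]
    apply Representation.IntertwiningMap.ext
    rw [← H.sum_repr A.toLinearMap]
    simp [h3])
  simpa using this

include H in
theorem two_le_finrank (h0 : 0 < finrank F E) : 2 ≤ finrank ℂ W := by
  have := H.dim
  rw [Module.card_eq_pow_finrank (K := F)] at this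
  have h1 := Nat.one_lt_pow h0.ne' (Fintype.one_lt_card (α := F))
  by_contra h
  have : finrank ℂ W * finrank ℂ W ≤ 1 * 1 := Nat.mul_le_mul (by omega) (by omega)
  omega

theorem isIrr_chi (h0 : 0 < finrank F E) :
    IsIrrCharacter (Isom B) (H.chi 1) ∧ IsIrrCharacter (Isom B) (H.chi (-1)) := by
  have := finite_Isom B
  have := Fintype.ofFinite (Isom B)
  have h1 := H.finrank_Wp
  have h2 := H.finrank_Wp'
  have h3 := H.two_le_finrank h0
  refine isIrr_of_norm_le_two (isCharacter_of_rep _) (isCharacter_of_rep _) (fun e => ?_)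
    (fun e => ?_) (H.finrank_intertwining h0) ?_
  · have := congrFun e 1
    rw [chi_one, Pi.zero_apply, Nat.cast_eq_zero] at this
    omega
  · have := congrFun e 1
    rw [chi_one, Pi.zero_apply, Nat.cast_eq_zero] at this
    omega
  · rw [← classInner_rep, char_eq_add_of_isCompl H.weil (H.sub 1) (H.sub (-1)) H.isCompl_Wp]
    rfl

theorem isIrreducible_sub (h0 : 0 < finrank F E) :
    (H.sub 1).toRepresentation.IsIrreducible ∧ (H.sub (-1)).toRepresentation.IsIrreducible := by
  have := finite_Isom B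
  have := Fintype.ofFinite (Isom B)
  exact ⟨isIrreducible_of_classInner _ (IsIrrCharacter.classInner_self (H.isIrr_chi h0).1),
    isIrreducible_of_classInner _ (IsIrrCharacter.classInner_self (H.isIrr_chi h0).2)⟩

theorem T_eq (w : E) (c : F) :
    H.T w c = ∑ s, (gam ψ c s / 2) • (H.h (s • w) + H.h (-(s • w))) := by
  have : ∑ s, (gam ψ c s / 2) • H.h (-(s • w)) = ∑ s, (gam ψ c s / 2) • H.h (s • w) :=
    Fintype.sum_equiv (Equiv.neg F) _ _ fun s => by simp [gam_neg]
  simp only [smul_add, Finset.sum_add_distrib, this]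
  simp only [T, ← Finset.sum_add_distrib, ← add_smul, add_halves]

theorem exists_linear (h4 : 4 ≤ finrank F E) {V : Type*} [AddCommGroup V] [Module ℂ V]
    (ρ : Isom B →* Module.End ℂ V) (D : E → Module.End ℂ V)
    (hmul : ∀ u v, D u * D v = ψ (B v u) • D (u + v) + ψ (-B v u) • D (u - v))
    (hneg : ∀ v, D (-v) = D v) (hzero : D 0 = 2)
    (hT : ∀ w c, ρ (H.sp.transv w c) = ∑ s, (gam ψ c s / 2) • D (s • w)) :
    ∃ Φ : Module.End ℂ W →ₗ[ℂ] Module.End ℂ V, ∀ g, Φ (H.weil g) = ρ g := by
  let Φ : Module.End ℂ W →ₗ[ℂ] Module.End ℂ V := H.basis.constr ℂ fun v => (2⁻¹ : ℂ) • D v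
  have h1 : ∀ v, Φ (H.h v + H.h (-v)) = D v := by
    intro v
    simp only [map_add, ← H.basis_apply, Φ, Basis.constr_basis, hneg]
    module
  let A := Submodule.span ℂ (Set.range fun v => H.h v + H.h (-v))
  have h2 : ∀ u v, (H.h u + H.h (-u)) * (H.h v + H.h (-v)) =
      ψ (B v u) • (H.h (u + v) + H.h (-(u + v))) + ψ (-B v u) • (H.h (u - v) + H.h (-(u - v))) := by
    intro u v
    simp only [add_mul, mul_add, H.mul, map_neg, LinearMap.neg_apply, neg_neg, smul_add,
      sub_eq_add_neg, neg_add]
    abel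
  have h3 : ∀ x ∈ A, ∀ y ∈ A, x * y ∈ A ∧ Φ (x * y) = Φ x * Φ y := by
    intro x hx y hy
    induction hx, hy using Submodule.span_induction₂ with
    | mem_mem x y hx hy =>
      obtain ⟨u, rfl⟩ := hx
      obtain ⟨v, rfl⟩ := hy
      simp only [h2]
      refine ⟨A.add_mem (A.smul_mem _ (Submodule.subset_span ⟨_, rfl⟩))
        (A.smul_mem _ (Submodule.subset_span ⟨_, rfl⟩)), ?_⟩
      rw [map_add, map_smul, map_smul, h1, h1, h1, h1, hmul]
    | zero_left => simp
    | zero_right => simp
    | add_left x y z _ _ _ e1 e2 =>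
      exact ⟨add_mul x y z ▸ A.add_mem e1.1 e2.1, by simp [add_mul, e1.2, e2.2]⟩
    | add_right x y z _ _ _ e1 e2 =>
      exact ⟨mul_add x y z ▸ A.add_mem e1.1 e2.1, by simp [mul_add, e1.2, e2.2]⟩
    | smul_left r x y _ _ e =>
      exact ⟨by rw [smul_mul_assoc]; exact A.smul_mem _ e.1, by simp [e.2]⟩
    | smul_right r x y _ _ e =>
      exact ⟨by rw [mul_smul_comm]; exact A.smul_mem _ e.1, by simp [e.2]⟩
  have h5 : ∀ w c, H.weil (H.sp.transv w c) ∈ A ∧
      Φ (H.weil (H.sp.transv w c)) = ρ (H.sp.transv w c) := by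
    intro w c
    rw [H.weil_transv h4, H.T_eq, hT]
    exact ⟨A.sum_mem fun s _ => A.smul_mem _ (Submodule.subset_span ⟨_, rfl⟩), by
      simp only [map_sum, map_smul, h1]⟩
  let S : Subgroup (Isom B) :=
    { carrier := {g | (H.weil g ∈ A ∧ Φ (H.weil g) = ρ g) ∧
        (H.weil g⁻¹ ∈ A ∧ Φ (H.weil g⁻¹) = ρ g⁻¹)}
      mul_mem' := by
        rintro a b ⟨⟨a1, a2⟩, ⟨a3, a4⟩⟩ ⟨⟨b1, b2⟩, ⟨b3, b4⟩⟩
        simp only [Set.mem_ofPred_eq, mul_inv_rev, map_mul]
        exact ⟨⟨(h3 _ a1 _ b1).1, by rw [(h3 _ a1 _ b1).2, a2, b2]⟩,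
          ⟨(h3 _ b3 _ a3).1, by rw [(h3 _ b3 _ a3).2, a4, b4]⟩⟩
      one_mem' := by
        have := h5 0 0
        rw [tr_zero] at this
        exact ⟨this, by rwa [inv_one]⟩
      inv_mem' := by
        rintro a ⟨a1, a2⟩
        exact ⟨a2, by rwa [inv_inv]⟩ }
  have := sp_eq_top H.sp S fun v c => ⟨h5 v c, by rw [tr_inv]; exact h5 v _⟩
  exact ⟨Φ, fun g => (show g ∈ S from this ▸ Subgroup.mem_top g).1.2⟩

end Heis

end Cfsg.Agent.H1
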